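import Groth.Agent.Lib.Goren.Rings
import Groth.Agent.Lib.Goren.Artin
import Groth.Agent.Lib.InjHull.Matlis
import Groth.Agent.Lib.Depth.CM
import Groth.Agent.Lib.Excellent.Transport
import Groth.Agent.H25.CMUnmixed
import Mathlib.RingTheory.Ideal.Colon
import Mathlib.RingTheory.Localization.Ideal
import Mathlib.RingTheory.Length
import Mathlib.RingTheory.Ideal.MinimalPrime.Localization
import Mathlib.RingTheory.Ideal.AssociatedPrime.Localization
import Mathlib.RingTheory.Ideal.Height

/-!
# Colon ideals, Artinian Gorenstein local rings and local rings of quotients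
-/

set_option autoImplicit false
set_option linter.style.haveILetI false
set_option linter.overlappingInstances false
set_option linter.unusedSectionVars false
set_option linter.unusedVariables false

universe u

open IsLocalRing InjHull

namespace Groth.Agent.H2.Liaison.Basic

section Gor

variable {B : Type u} [CommRing B] [IsLocalRing B] [IsArtinianRing B] [LocCoh.IsGorensteinLocalRing B]

theorem colon_bot_eq_torsionBy (I : Ideal B) :
    ((⊥ : Ideal B).colon (I : Set B) : Ideal B) = LocCoh.torsionBy I B := by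
  ext x
  rw [Submodule.mem_colon, Submodule.mem_torsionBySet_iff]
  constructor
  · rintro h ⟨c, hc⟩
    have := h c hc
    rw [Submodule.mem_bot, smul_eq_mul] at this
    show c * x = 0
    rw [mul_comm, this]
  · intro h c hc
    have : c * x = 0 := h ⟨c, hc⟩
    rw [Submodule.mem_bot, smul_eq_mul, mul_comm, this]

/-- `length (0 : I) = length (B / I)` in an Artinian Gorenstein local ring. -/
theorem length_colon_bot (I : Ideal B) :
    Module.length B ↥((⊥ : Ideal B).colon (I : Set B) : Ideal B) = Module.length B (B ⧸ I) := by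
  obtain ⟨n, hn⟩ := LocCoh.IsGorensteinLocalRing.exists_hasInjectiveDimensionLT (A := B)
  have hd := Lib.Goren.Artin.depth_eq_zero (A := B)
  have := Lib.Goren.Basic.injective_of_depth_eq_zero hd hn
  have hinj : Module.Injective B B := (Module.injective_iff_injective_object B B).mpr inferInstance
  obtain ⟨φ, hφ⟩ := Lib.Goren.Basic.exists_residueField_embedding
    ((Lib.Depth.Assoc.depth_eq_zero_iff (M := B)).mp hd)
  have hind : IsIndecomposable B B := by
    refine ⟨inferInstance, fun N N' hc => ?_⟩
    obtain ⟨a, ha, b, hb, hab⟩ := Submodule.mem_sup.mp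
      (show (1 : B) ∈ N ⊔ N' by rw [hc.sup_eq_top]; trivial)
    rcases IsLocalRing.isUnit_or_isUnit_of_add_one hab with hu | hu
    · exact Or.inr (hc.disjoint.symm.eq_bot_of_le (by rw [Ideal.eq_top_of_isUnit_mem N ha hu]; exact le_top))
    · exact Or.inl (hc.disjoint.eq_bot_of_le (by rw [Ideal.eq_top_of_isUnit_mem N' hb hu]; exact le_top))
  have hess : IsEssentialInj φ := ⟨hφ, fun N hN => Lib.InjHull.Basic.inf_ne_bot_of_indecomposable hind hinj hN
    fun h => by
      rw [LinearMap.range_eq_bot] at h
      subst h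
      exact not_subsingleton (ResidueField B) ⟨fun a b => hφ rfl⟩⟩
  have hhull : IsInjectiveHull φ := ⟨hess, hinj⟩
  have hfl : IsFiniteLength B (B ⧸ I) :=
    isFiniteLength_iff_isNoetherian_isArtinian.mpr ⟨inferInstance, inferInstance⟩
  rw [colon_bot_eq_torsionBy, ← (Lib.InjHull.BaseChange.homQuotientEquiv I B).length_eq]
  exact Lib.InjHull.Matlis.length_dual (m := maximalIdeal B) hhull hfl

theorem length_add_colon_bot (I : Ideal B) :
    Module.length B (B ⧸ (⊥ : Ideal B).colon (I : Set B)) + Module.length B (B ⧸ I) =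
      Module.length B B := by
  rw [Module.length_eq_add_of_exact ((⊥ : Ideal B).colon (I : Set B)).subtype
    ((⊥ : Ideal B).colon (I : Set B)).mkQ (Submodule.injective_subtype _)
    (Submodule.mkQ_surjective _) (LinearMap.exact_subtype_mkQ _), length_colon_bot, add_comm]

theorem colon_colon_bot (I : Ideal B) :
    (⊥ : Ideal B).colon (((⊥ : Ideal B).colon (I : Set B) : Ideal B) : Set B) = I := by
  set J : Ideal B := (⊥ : Ideal B).colon (I : Set B) with hJ
  set K : Ideal B := (⊥ : Ideal B).colon (J : Set B) with hK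
  have hle : I ≤ K := fun x hx => Submodule.mem_colon.2 fun s hs => by
    have := Submodule.mem_colon.1 hs x hx
    rwa [smul_eq_mul, mul_comm, ← smul_eq_mul] at this
  have hB : Module.length B B ≠ ⊤ := Module.length_ne_top
  have h1 := length_add_colon_bot I
  have h2 := length_add_colon_bot J
  rw [← hJ] at h1
  rw [← hK] at h2
  have e := Module.length_eq_add_of_exact (LinearMap.ker (Submodule.factor hle)).subtype
    (Submodule.factor hle) (Submodule.injective_subtype _) (Submodule.factor_surjective hle)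
    (LinearMap.exact_subtype_ker_map _)
  obtain ⟨a, ha⟩ := ENat.ne_top_iff_exists.1 (Module.length_ne_top : Module.length B (B ⧸ I) ≠ ⊤)
  obtain ⟨b, hb⟩ := ENat.ne_top_iff_exists.1 (Module.length_ne_top : Module.length B (B ⧸ J) ≠ ⊤)
  obtain ⟨c, hc⟩ := ENat.ne_top_iff_exists.1 (Module.length_ne_top : Module.length B (B ⧸ K) ≠ ⊤)
  obtain ⟨d, hd⟩ := ENat.ne_top_iff_exists.1
    (Module.length_ne_top : Module.length B (LinearMap.ker (Submodule.factor hle)) ≠ ⊤)
  rw [← ha, ← hd, ← hc] at e
  rw [← ha, ← hb] at h1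
  rw [← hc, ← hb] at h2
  rw [← h2] at h1
  norm_cast at e h1
  have hd0 : d = 0 := by omega
  rw [hd0, Nat.cast_zero, eq_comm, Module.length_eq_zero_iff] at hd
  refine le_antisymm (fun x hx => ?_) hle
  exact (Submodule.Quotient.mk_eq_zero I).1 (congrArg Subtype.val
    (Subsingleton.elim (⟨Submodule.Quotient.mk x, (Submodule.Quotient.mk_eq_zero K).2 hx⟩ :
      LinearMap.ker (Submodule.factor hle)) 0))

end Gor

section Colon

variable {B : Type u} [CommRing B]

theorem colon_map_quotient {C I : Ideal B} (hCI : C ≤ I) :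
    (C.colon (I : Set B)).map (Ideal.Quotient.mk C) =
      (⊥ : Ideal (B ⧸ C)).colon ((I.map (Ideal.Quotient.mk C) : Ideal (B ⧸ C)) : Set (B ⧸ C)) := by
  apply le_antisymm
  · rw [Ideal.map_le_iff_le_comap]
    intro x hx
    rw [Ideal.mem_comap, Submodule.mem_colon]
    intro s hs
    obtain ⟨s, hs', rfl⟩ := (Ideal.mem_map_iff_of_surjective _ Ideal.Quotient.mk_surjective).1 hs
    rw [Submodule.mem_bot, smul_eq_mul, ← map_mul, Ideal.Quotient.eq_zero_iff_mem]
    exact Submodule.mem_colon.1 hx s hs'
  · intro y hy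
    obtain ⟨x, rfl⟩ := Ideal.Quotient.mk_surjective y
    refine Ideal.mem_map_of_mem _ (Submodule.mem_colon.2 fun s hs => ?_)
    have := Submodule.mem_colon.1 hy _ (Ideal.mem_map_of_mem _ hs)
    rwa [Submodule.mem_bot, smul_eq_mul, ← map_mul, Ideal.Quotient.eq_zero_iff_mem] at this

theorem le_colon_self (C I : Ideal B) : C ≤ C.colon (I : Set B) := fun _ hx =>
  Submodule.mem_colon.2 fun s _ => Ideal.mul_mem_right s C hx

theorem le_colon_colon (C I : Ideal B) :
    I ≤ C.colon ((C.colon (I : Set B) : Ideal B) : Set B) := fun x hx =>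
  Submodule.mem_colon.2 fun s hs => by
    have := Submodule.mem_colon.1 hs x hx
    rwa [smul_eq_mul, mul_comm, ← smul_eq_mul] at this

theorem length_quotient_map {C I : Ideal B} (hCI : C ≤ I) :
    Module.length B (B ⧸ I) =
      Module.length (B ⧸ C) ((B ⧸ C) ⧸ I.map (Ideal.Quotient.mk C)) := by
  rw [← Module.length_eq_of_surjective (R := B ⧸ C) (S := B) (M := (B ⧸ C) ⧸ I.map (Ideal.Quotient.mk C))
    Ideal.Quotient.mk_surjective]
  exact (DoubleQuot.quotQuotEquivQuotOfLEₐ B hCI).symm.toLinearEquiv.length_eq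

theorem colon_colon_local [IsLocalRing B] {C I : Ideal B} [IsLocalRing (B ⧸ C)]
    [IsArtinianRing (B ⧸ C)] [LocCoh.IsGorensteinLocalRing (B ⧸ C)] (hCI : C ≤ I) :
    C.colon ((C.colon (I : Set B) : Ideal B) : Set B) = I := by
  have h := colon_colon_bot (I.map (Ideal.Quotient.mk C))
  rw [← colon_map_quotient hCI, ← colon_map_quotient (le_colon_self C I)] at h
  have h' := congrArg (Ideal.comap (Ideal.Quotient.mk C)) h
  rwa [Ideal.comap_map_of_surjective _ Ideal.Quotient.mk_surjective, ← RingHom.ker_eq_comap_bot,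
    Ideal.mk_ker, Ideal.comap_map_of_surjective _ Ideal.Quotient.mk_surjective,
    ← RingHom.ker_eq_comap_bot, Ideal.mk_ker, sup_eq_left.2 (le_colon_self C _),
    sup_eq_left.2 hCI] at h'

theorem length_colon_local [IsLocalRing B] {C I : Ideal B} [IsLocalRing (B ⧸ C)]
    [IsArtinianRing (B ⧸ C)] [LocCoh.IsGorensteinLocalRing (B ⧸ C)] (hCI : C ≤ I) :
    Module.length B (B ⧸ C.colon (I : Set B)) + Module.length B (B ⧸ I) =
      Module.length B (B ⧸ C) := by
  rw [length_quotient_map (le_colon_self C I), length_quotient_map hCI, colon_map_quotient hCI,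
    length_add_colon_bot]
  exact (Module.length_eq_of_surjective (R := B ⧸ C) (S := B) Ideal.Quotient.mk_surjective).symm

end Colon

section Loc

variable {R : Type u} [CommRing R] (M : Submonoid R) (T : Type u) [CommRing T] [Algebra R T]
  [IsLocalization M T]

include M in
theorem colon_map {C I : Ideal R} (hI : I.FG) :
    (C.colon (I : Set R)).map (algebraMap R T) =
      (C.map (algebraMap R T)).colon ((I.map (algebraMap R T) : Ideal T) : Set T) := by
  apply le_antisymm
  · rw [Ideal.map_le_iff_le_comap]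
    intro x hx
    rw [Ideal.mem_comap, Submodule.mem_colon]
    intro s hs
    rw [smul_eq_mul]
    induction hs using Submodule.span_induction with
    | mem y hy =>
      obtain ⟨i, hi, rfl⟩ := hy
      rw [← map_mul]
      exact Ideal.mem_map_of_mem _ (Submodule.mem_colon.1 hx i hi)
    | zero => rw [mul_zero]; exact zero_mem _
    | add a b _ _ ha hb => rw [mul_add]; exact add_mem ha hb
    | smul a b _ hb => rw [smul_eq_mul, mul_left_comm]; exact Ideal.mul_mem_left _ a hb
  · intro z hz
    obtain ⟨a, s, rfl⟩ := IsLocalization.exists_mk'_eq M z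
    obtain ⟨G, hG⟩ := hI
    have hg : ∀ g ∈ G, ∃ t ∈ M, t * (a * g) ∈ C := fun g hg => by
      have h := Submodule.mem_colon.1 hz (algebraMap R T g)
        (Ideal.mem_map_of_mem _ (hG ▸ Submodule.subset_span hg))
      rw [smul_eq_mul, mul_comm, IsLocalization.mul_mk'_eq_mk'_of_mul,
        IsLocalization.mk'_mem_map_algebraMap_iff] at h
      obtain ⟨t, ht, h⟩ := h
      exact ⟨t, ht, by rwa [mul_comm a g]⟩
    choose! t ht htC using hg
    rw [IsLocalization.mk'_mem_map_algebraMap_iff]
    refine ⟨∏ g ∈ G, t g, prod_mem fun g hg => ht g hg, Submodule.mem_colon.2 fun i hi => ?_⟩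
    rw [← hG] at hi
    rw [smul_eq_mul]
    induction hi using Submodule.span_induction with
    | mem y hy =>
      obtain ⟨c, hc⟩ := Finset.dvd_prod_of_mem t hy
      rw [hc, show t y * c * a * y = c * (t y * (a * y)) by ring]
      exact C.mul_mem_left c (htC y hy)
    | zero => rw [mul_zero]; exact zero_mem _
    | add a b _ _ ha hb => rw [mul_add]; exact add_mem ha hb
    | smul a b _ hb => rw [smul_eq_mul, mul_left_comm]; exact C.mul_mem_left a hb

end Loc

section LocalQuotient

variable {R : Type u} [CommRing R] (C m : Ideal R) [hm : m.IsPrime] (hCm : C ≤ m)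

/-- The local ring of `R ⧸ C` at `m`. -/
abbrev LQ : Type u :=
  Localization.AtPrime m ⧸ C.map (algebraMap R (Localization.AtPrime m))

include hCm in
theorem map_ne_top : C.map (algebraMap R (Localization.AtPrime m)) ≠ ⊤ := by
  rw [IsLocalization.map_algebraMap_ne_top_iff_disjoint m.primeCompl]
  exact Set.disjoint_left.2 fun x hx hxC => hx (hCm hxC)

include hCm in
theorem isLocalRing_lq : IsLocalRing (LQ C m) := by
  have : Nontrivial (LQ C m) := Ideal.Quotient.nontrivial_iff.2 (map_ne_top C m hCm)
  exact IsLocalRing.of_surjective' _ Ideal.Quotient.mk_surjective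

include hCm in
theorem exists_localization :
    ∃ (P : Ideal (R ⧸ C)) (_ : P.IsPrime),
      Ideal.comap (Ideal.Quotient.mk C) P = m ∧
      Nonempty (Localization.AtPrime P ≃+* LQ C m) := by
  have hker : RingHom.ker (Ideal.Quotient.mk C) ≤ m := by rwa [Ideal.mk_ker]
  have hP : (m.map (Ideal.Quotient.mk C)).IsPrime :=
    Ideal.map_isPrime_of_surjective Ideal.Quotient.mk_surjective hker
  set P := m.map (Ideal.Quotient.mk C)
  have hc : Ideal.comap (Ideal.Quotient.mk C) P = m := by
    rw [Ideal.comap_map_of_surjective _ Ideal.Quotient.mk_surjective, ← RingHom.ker_eq_comap_bot]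
    exact sup_eq_left.2 hker
  haveI : P.LiesOver m := ⟨hc.symm⟩
  have hsub : Algebra.algebraMapSubmonoid (R ⧸ C) m.primeCompl = P.primeCompl :=
    Ideal.algebraMapSubmonoid_primeCompl_of_liesOver_surjective (P := P) m Ideal.Quotient.mk_surjective
  have hloc : IsLocalization (Algebra.algebraMapSubmonoid (R ⧸ C) m.primeCompl) (LQ C m) :=
    inferInstance
  rw [hsub] at hloc
  exact ⟨P, hP, hc, ⟨(IsLocalization.algEquiv P.primeCompl (Localization.AtPrime P) (LQ C m)).toRingEquiv⟩⟩

include hCm in
theorem isGorensteinLocalRing_lq [LocCoh.IsGorensteinRing (R ⧸ C)] :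
    LocCoh.IsGorensteinLocalRing (LQ C m) := by
  obtain ⟨P, hP, -, ⟨e⟩⟩ := exists_localization C m hCm
  have := LocCoh.IsGorensteinRing.isGorensteinLocalRing_localization (A := R ⧸ C) P
  exact Lib.Goren.Flat.isGorensteinLocalRing_ringEquiv e

include hCm in
theorem isCohenMacaulayLocalRing_lq [LocCoh.IsCohenMacaulayRing (R ⧸ C)] :
    LocCoh.IsCohenMacaulayLocalRing (LQ C m) := by
  obtain ⟨P, hP, -, ⟨e⟩⟩ := exists_localization C m hCm
  have := LocCoh.IsCohenMacaulayRing.isCohenMacaulayLocalRing_localization (R := R ⧸ C) P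
  exact Lib.Excellent.Transport.isCohenMacaulayLocalRing_of_ringEquiv e

include hCm in
theorem isArtinianRing_lq [IsNoetherianRing R] (hmin : m ∈ C.minimalPrimes) :
    IsArtinianRing (LQ C m) := by
  rw [isArtinianRing_iff_krullDimLE_zero]
  refine Ring.KrullDimLE.mk₀ fun Q hQ => ?_
  haveI := hQ
  haveI := isLocalRing_lq C m hCm
  set Q' := Q.comap (Ideal.Quotient.mk (C.map (algebraMap R (Localization.AtPrime m))))
  set q := Q'.comap (algebraMap R (Localization.AtPrime m))
  have hCq : C ≤ q := fun x hx => by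
    show Ideal.Quotient.mk _ (algebraMap R (Localization.AtPrime m) x) ∈ Q
    rw [Ideal.Quotient.eq_zero_iff_mem.2 (Ideal.mem_map_of_mem _ hx)]
    exact Q.zero_mem
  have hqm : q ≤ m := by
    intro x hx
    by_contra hxm
    exact (inferInstance : Q'.IsPrime).ne_top (Ideal.eq_top_of_isUnit_mem _ hx
      (IsLocalization.map_units _ (⟨x, hxm⟩ : m.primeCompl)))
  have hq : q = m := le_antisymm hqm (hmin.2 ⟨inferInstance, hCq⟩ hqm)
  have hQ' : Q' = maximalIdeal (Localization.AtPrime m) := by
    rw [← IsLocalization.map_under m.primeCompl (Localization.AtPrime m) Q',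
      ← Localization.AtPrime.map_eq_maximalIdeal]
    exact congrArg _ hq
  have hQ2 : Q = (maximalIdeal (Localization.AtPrime m)).map (Ideal.Quotient.mk _) := by
    rw [← hQ', Ideal.map_comap_of_surjective _ Ideal.Quotient.mk_surjective]
  rw [hQ2]
  exact (Ideal.map_eq_top_or_isMaximal_of_surjective _ Ideal.Quotient.mk_surjective
    inferInstance).resolve_left (hQ2 ▸ hQ.ne_top)

end LocalQuotient

section Assoc

variable {R : Type u} [CommRing R] [IsNoetherianRing R]

theorem mem_associatedPrimes_quotient {C p : Ideal R} :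
    p ∈ associatedPrimes R (R ⧸ C) ↔ p.IsPrime ∧ ∃ y : R, p = C.colon ({y} : Set R) := by
  have hcol : ∀ y : R, (⊥ : Submodule R (R ⧸ C)).colon {Ideal.Quotient.mk C y} =
      C.colon ({y} : Set R) := fun y => by
    ext r
    rw [Submodule.mem_colon_singleton, Submodule.mem_colon_singleton, Submodule.mem_bot,
      ← Ideal.Quotient.eq_zero_iff_mem, smul_eq_mul, map_mul, Algebra.smul_def,
      Ideal.Quotient.algebraMap_eq]
  rw [AssociatedPrimes.mem_iff, isAssociatedPrime_iff]
  refine and_congr_right fun _ => ⟨?_, ?_⟩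
  · rintro ⟨x, hx⟩
    obtain ⟨y, rfl⟩ := Ideal.Quotient.mk_surjective x
    exact ⟨y, hx.trans (hcol y)⟩
  · rintro ⟨y, hy⟩
    exact ⟨_, hy.trans (hcol y).symm⟩

theorem exists_associated_of_not_mem {C : Ideal R} {x : R} (hx : x ∉ C) :
    ∃ p ∈ associatedPrimes R (R ⧸ C), C.colon ({x} : Set R) ≤ p := by
  obtain ⟨p, hp, hle⟩ := exists_le_isAssociatedPrime_of_isNoetherianRing R
    (Ideal.Quotient.mk C x) (fun h => hx (Ideal.Quotient.eq_zero_iff_mem.1 h))
  refine ⟨p, hp, fun r hr => hle ?_⟩
  rw [Submodule.mem_colon_singleton, smul_eq_mul] at hr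
  rw [Submodule.mem_colon_singleton, Submodule.mem_bot, Algebra.smul_def,
    Ideal.Quotient.algebraMap_eq, ← map_mul, Ideal.Quotient.eq_zero_iff_mem]
  exact hr

theorem minimalPrimes_subset_associatedPrimes (C : Ideal R) :
    C.minimalPrimes ⊆ associatedPrimes R (R ⧸ C) := by
  have h := Module.associatedPrimes.minimalPrimes_annihilator_subset_associatedPrimes R (R ⧸ C)
  rwa [Ideal.annihilator_quotient] at h

theorem le_of_mem_associatedPrimes {C p : Ideal R} (hp : p ∈ associatedPrimes R (R ⧸ C)) : C ≤ p := by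
  obtain ⟨-, y, rfl⟩ := mem_associatedPrimes_quotient.1 hp
  exact fun x hx => Submodule.mem_colon_singleton.2 (Ideal.mul_mem_right y C hx)

theorem associatedPrimes_colon_subset (C I : Ideal R) :
    associatedPrimes R (R ⧸ C.colon (I : Set R)) ⊆ associatedPrimes R (R ⧸ C) := by
  classical
  intro p hp
  obtain ⟨hpp, y, hy⟩ := mem_associatedPrimes_quotient.1 hp
  obtain ⟨G, hG⟩ := (IsNoetherian.noetherian I : I.FG)
  have he : p = G.inf fun g => C.colon ({y * g} : Set R) := by
    refine le_antisymm (Finset.le_inf fun g hg => ?_) fun r hr => ?_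
    · intro r hr
      rw [hy, Submodule.mem_colon_singleton, smul_eq_mul] at hr
      have := Submodule.mem_colon.1 hr g (hG ▸ Submodule.subset_span hg)
      rw [Submodule.mem_colon_singleton, smul_eq_mul, ← mul_assoc]
      exact this
    · rw [hy, Submodule.mem_colon_singleton, smul_eq_mul, Submodule.mem_colon]
      intro i hi
      rw [← hG] at hi
      rw [smul_eq_mul]
      induction hi using Submodule.span_induction with
      | mem g hg =>
        have := (Finset.inf_le hg : G.inf (fun g => C.colon ({y * g} : Set R)) ≤ _) hr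
        rw [Submodule.mem_colon_singleton, smul_eq_mul, ← mul_assoc] at this
        exact this
      | zero => rw [mul_zero]; exact zero_mem _
      | add a b _ _ ha hb => rw [mul_add]; exact add_mem ha hb
      | smul a b _ hb => rw [smul_eq_mul, mul_left_comm]; exact C.mul_mem_left a hb
  obtain ⟨g, hg, hle⟩ := (Ideal.IsPrime.inf_le' hpp).1 he.ge
  exact mem_associatedPrimes_quotient.2
    ⟨hpp, y * g, le_antisymm (he.le.trans (Finset.inf_le hg)) hle⟩

theorem minimal_of_height_eq {C p : Ideal R} [p.IsPrime] {c : ℕ} (hC : C.height = c)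
    (hp : p.height = c) (hle : C ≤ p) : p ∈ C.minimalPrimes := by
  obtain ⟨q, hq, hqp⟩ := Ideal.exists_minimalPrimes_le hle
  haveI := hq.1.1
  rcases hqp.eq_or_lt with rfl | hlt
  · exact hq
  · exfalso
    have h1 := Ideal.height_strict_mono_of_isPrime_of_isPrime hlt
    have h2 : C.height ≤ q.height := Ideal.height_mono hq.1.2
    rw [hC] at h2
    rw [hp] at h1
    exact absurd (h2.trans_lt h1) (lt_irrefl _)

end Assoc

end Groth.Agent.H2.Liaison.Basic
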