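import Groth.Agent.H2.Liaison.Basic
import Groth.Agent.Lib.LCFin.Duality
import Groth.Agent.Lib.Depth.LocalCoh
import Groth.Agent.Lib.Depth.SES
import Groth.Agent.Lib.Goren.LCI
import Mathlib.RingTheory.KrullDimension.Regular

/-!
# Linkage in a Gorenstein local ring
-/

set_option autoImplicit false
set_option linter.style.haveILetI false
set_option linter.overlappingInstances false
set_option linter.unusedSectionVars false

universe u

open IsLocalRing CategoryTheory InjHull LocCoh
open scoped Pointwise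

namespace Groth.Agent.H2.Liaison.Dual

open Groth.Agent.H2.Liaison.Basic

/-- the annihilator of an ideal -/
local notation "Ann" i => Submodule.colon (⊥ : Ideal _) (SetLike.coe i)

variable {A : Type u} [CommRing A]

theorem mem_ann {i : Ideal A} {a : A} : a ∈ (Ann i : Ideal A) ↔ ∀ t ∈ i, a * t = 0 := by
  rw [Submodule.mem_colon]
  simp [Submodule.mem_bot]

/-- regular elements stay regular modulo an annihilator -/
theorem isSMulRegular_quot_ann (i : Ideal A) {x : A} (hx : IsSMulRegular A x) :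
    IsSMulRegular (A ⧸ (Ann i : Ideal A)) x := by
  rw [isSMulRegular_iff_right_eq_zero_of_smul]
  intro z hz
  obtain ⟨a, rfl⟩ := Ideal.Quotient.mk_surjective z
  rw [Algebra.smul_def, Ideal.Quotient.algebraMap_eq, ← map_mul, Ideal.Quotient.eq_zero_iff_mem,
    mem_ann] at hz
  rw [Ideal.Quotient.eq_zero_iff_mem, mem_ann]
  intro t ht
  refine (isSMulRegular_iff_right_eq_zero_of_smul.1 hx) _ ?_
  rw [smul_eq_mul, ← mul_assoc]
  exact hz t ht

/-- `(A/(x))/(i)` as a module over `A` -/
noncomputable def quotEquiv (i : Ideal A) (x : A) :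
    QuotSMulTop x (A ⧸ i) ≃ₗ[A] ((A ⧸ Ideal.span {x}) ⧸ i.map (Ideal.Quotient.mk (Ideal.span {x}))) := by
  let g : (A ⧸ i) →ₗ[A] (A ⧸ (Ideal.span {x} ⊔ i)) := Submodule.factor le_sup_right
  have hg : Function.Surjective g := Submodule.factor_surjective _
  have hk : x • (⊤ : Submodule A (A ⧸ i)) = LinearMap.ker g := by
    apply le_antisymm
    · intro z hz
      rw [Submodule.mem_smul_pointwise_iff_exists] at hz
      obtain ⟨w, -, rfl⟩ := hz
      rw [LinearMap.mem_ker, map_smul]
      obtain ⟨b, hb⟩ := Submodule.Quotient.mk_surjective _ (g w)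
      rw [← hb, ← Submodule.Quotient.mk_smul, Submodule.Quotient.mk_eq_zero]
      exact Ideal.mem_sup_left (Ideal.mem_span_singleton.2 ⟨b, rfl⟩)
    · intro z hz
      obtain ⟨a, rfl⟩ := Submodule.Quotient.mk_surjective _ z
      have ha : a ∈ Ideal.span {x} ⊔ i := (Submodule.Quotient.mk_eq_zero _).1 hz
      obtain ⟨w, hw, t, ht, rfl⟩ := Submodule.mem_sup.1 ha
      obtain ⟨b, rfl⟩ := Ideal.mem_span_singleton.1 hw
      rw [Submodule.mem_smul_pointwise_iff_exists]
      refine ⟨Submodule.Quotient.mk b, trivial, ?_⟩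
      rw [← Submodule.Quotient.mk_smul, Submodule.Quotient.eq, smul_eq_mul]
      simpa using neg_mem ht
  exact ((Submodule.quotEquivOfEq _ _ hk).trans (g.quotKerEquivOfSurjective hg)).trans
    (DoubleQuot.quotQuotEquivQuotSupₐ A (Ideal.span {x}) i).symm.toLinearEquiv

variable [IsNoetherianRing A] [IsLocalRing A]

theorem depth_reduce (i : Ideal A) {x : A} (hx : x ∈ maximalIdeal A)
    [IsLocalRing (A ⧸ Ideal.span {x})] (hreg : IsSMulRegular (A ⧸ i) x) :
    depth (A ⧸ Ideal.span {x})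
        ((A ⧸ Ideal.span {x}) ⧸ i.map (Ideal.Quotient.mk (Ideal.span {x}))) + 1 =
      depth A (A ⧸ i) := by
  rw [← Lib.Depth.Basic.depth_eq_of_surjective (R := A) (S := A ⧸ Ideal.span {x})
    Ideal.Quotient.mk_surjective, ← Lib.Depth.Basic.depth_congr (quotEquiv i x)]
  exact Lib.Depth.SES.idealDepth_quotSMulTop _ hx hreg

theorem gor_dim [IsGorensteinLocalRing A] {d : ℕ} (hd : ringKrullDim A = d) :
    (d : ℕ∞) = depth A A := by
  obtain ⟨n, hn⟩ := IsGorensteinLocalRing.exists_hasInjectiveDimensionLT (A := A)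
  obtain ⟨d', hd', -, hCM, -⟩ := Lib.Goren.Basic.exists_dim hn
  have := Lib.Depth.CM.ringKrullDim_eq_depth (R := A)
  rw [hd] at this
  exact_mod_cast this

/-- `Ext¹(A/i, A) = 0` in the maximal Cohen–Macaulay case: maps `i → A` extend. -/
theorem exists_scalar [IsGorensteinLocalRing A] {d : ℕ} (hd : ringKrullDim A = d) (hd1 : 1 ≤ d)
    (i : Ideal A) (hi : (d : ℕ∞) ≤ depth A (A ⧸ i)) (ψ : i →ₗ[A] A) :
    ∃ c : A, ∀ t : i, ψ t = c * t := by
  obtain ⟨g, hg⟩ := Lib.LCFin.Gorenstein.exists_isInjectiveHull A d hd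
  have hH := (Lib.Depth.LocalCoh.le_idealDepth_iff_H (maximalIdeal A) (A ⧸ i) d).1 hi (d - 1) (by omega)
  obtain ⟨e⟩ := Lib.LCFin.Duality.exists_duality (R := A) d hd (A ⧸ i) (i := d - 1) (j := 1) (by omega)
  have hdual : ∀ φ : Abelian.Ext (ModuleCat.of A (A ⧸ i)) (ModuleCat.of A A) 1 →ₗ[A]
      LocCoh.H (maximalIdeal A) d A, φ = 0 := fun φ => by
    rw [← e.apply_symm_apply φ, hH.elim (e.symm φ) 0, map_zero]
  let T : ShortComplex (ModuleCat.{u} A) :=
    ModuleCat.shortComplexOfCompEqZero i.subtype i.mkQ (LinearMap.exact_subtype_mkQ i).linearMap_comp_eq_zero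
  have hT : T.ShortExact := ModuleCat.shortComplex_shortExact T (LinearMap.exact_subtype_mkQ i)
    Subtype.val_injective i.mkQ_surjective
  have h1 : hT.extClass.comp (Abelian.Ext.mk₀ (ModuleCat.ofHom ψ : T.X₁ ⟶ ModuleCat.of A A)) (add_zero 1) = 0 :=
    Lib.InjHull.Matlis.eq_zero_of_forall_dual (m := maximalIdeal A) hg fun φ => by
      rw [hdual φ]; rfl
  obtain ⟨x2, hx2⟩ := Abelian.Ext.contravariant_sequence_exact₁ hT (ModuleCat.of A A) _ (add_zero 1) h1
  obtain ⟨Φ, rfl⟩ := (Abelian.Ext.mk₀_bijective _ _).2 x2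
  rw [Abelian.Ext.mk₀_comp_mk₀] at hx2
  have h2 := congrArg ModuleCat.Hom.hom ((Abelian.Ext.mk₀_bijective _ _).1 hx2)
  refine ⟨Φ.hom (1 : A), fun t => ?_⟩
  have h3 : Φ.hom (t : A) = ψ t := LinearMap.congr_fun h2 t
  rw [← h3, mul_comm]
  have h4 := Φ.hom.map_smul (t : A) (1 : A)
  simpa using h4

theorem colon_span_eq [IsGorensteinLocalRing A] {d : ℕ} (hd : ringKrullDim A = d) (hd1 : 1 ≤ d)
    (i : Ideal A) (hi : (d : ℕ∞) ≤ depth A (A ⧸ i)) {x : A} (hx : IsSMulRegular A x) :
    (Ideal.span {x}).colon (i : Set A) = (Ann i : Ideal A) ⊔ Ideal.span {x} := by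
  apply le_antisymm
  · intro a ha
    have hdiv : ∀ t : i, ∃ u : A, x * u = a * t := fun t => by
      have := Submodule.mem_colon.1 ha t t.2
      rw [smul_eq_mul, Ideal.mem_span_singleton] at this
      obtain ⟨u, hu⟩ := this
      exact ⟨u, hu.symm⟩
    choose u hu using hdiv
    let ψ : i →ₗ[A] A :=
      { toFun := u
        map_add' := fun s t => hx (show x * u (s + t) = x * (u s + u t) by
          rw [mul_add, hu, hu, hu]; push_cast; ring)
        map_smul' := fun r t => hx (show x * u (r • t) = x * (r • u t) by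
          rw [smul_eq_mul, hu, mul_left_comm x r, hu, Submodule.coe_smul, smul_eq_mul]; ring) }
    obtain ⟨c, hc⟩ := exists_scalar hd hd1 i hi ψ
    rw [← sub_add_cancel a (x * c)]
    refine Submodule.add_mem_sup (mem_ann.2 fun t ht => ?_) (Ideal.mem_span_singleton.2 ⟨c, rfl⟩)
    rw [sub_mul, mul_assoc, sub_eq_zero, ← hu ⟨t, ht⟩]
    exact congrArg (x * ·) (hc ⟨t, ht⟩)
  · refine sup_le (fun a ha => Submodule.mem_colon.2 fun t ht => ?_) (le_colon_self _ _)
    rw [smul_eq_mul, mem_ann.1 ha t ht]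
    exact zero_mem _

theorem map_ann [IsGorensteinLocalRing A] {d : ℕ} (hd : ringKrullDim A = d) (hd1 : 1 ≤ d)
    (i : Ideal A) (hi : (d : ℕ∞) ≤ depth A (A ⧸ i)) {x : A} (hx : IsSMulRegular A x) :
    (Ann i : Ideal A).map (Ideal.Quotient.mk (Ideal.span {x})) =
      (⊥ : Ideal (A ⧸ Ideal.span {x})).colon
        ((i.map (Ideal.Quotient.mk (Ideal.span {x})) : Ideal (A ⧸ Ideal.span {x})) :
          Set (A ⧸ Ideal.span {x})) := by
  apply le_antisymm
  · rw [Ideal.map_le_iff_le_comap]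
    intro a ha
    rw [Ideal.mem_comap, Submodule.mem_colon]
    intro s hs
    obtain ⟨t, ht, rfl⟩ := (Ideal.mem_map_iff_of_surjective _ Ideal.Quotient.mk_surjective).1 hs
    rw [Submodule.mem_bot, smul_eq_mul, ← map_mul, mem_ann.1 ha t ht, map_zero]
  · intro z hz
    obtain ⟨a, rfl⟩ := Ideal.Quotient.mk_surjective z
    have ha : a ∈ (Ideal.span {x}).colon (i : Set A) := Submodule.mem_colon.2 fun t ht => by
      have := Submodule.mem_colon.1 hz _ (Ideal.mem_map_of_mem _ ht)
      rwa [Submodule.mem_bot, smul_eq_mul, ← map_mul, Ideal.Quotient.eq_zero_iff_mem] at this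
    rw [colon_span_eq hd hd1 i hi hx] at ha
    obtain ⟨b, hb, w, hw, rfl⟩ := Submodule.mem_sup.1 ha
    rw [map_add, Ideal.Quotient.eq_zero_iff_mem.2 hw, add_zero]
    exact Ideal.mem_map_of_mem _ hb

theorem dim_quotient_span {d : ℕ} (hd : ringKrullDim A = (d + 1 : ℕ)) {x : A}
    (hx : x ∈ maximalIdeal A) (hreg : IsSMulRegular A x) :
    ringKrullDim (A ⧸ Ideal.span {x}) = d := by
  have h := ringKrullDim_quotient_span_singleton_succ_eq_ringKrullDim hreg hx
  rw [hd] at h
  haveI := Lib.Goren.Basic.isLocalRing_quotient_span hx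
  obtain ⟨e, he⟩ : ∃ e : ℕ, ringKrullDim (A ⧸ Ideal.span {x}) = e := Lib.Goren.LCI.exists_nat_dim _
  rw [he] at h ⊢
  have h' : e + 1 = d + 1 := by exact_mod_cast h
  simp at h'
  rw [h']

theorem exists_regular {M : Type u} [AddCommGroup M] [Module A M] [Module.Finite A M] {d : ℕ}
    (hd : ringKrullDim A = (d + 1 : ℕ)) [IsGorensteinLocalRing A]
    (hM : (1 : ℕ∞) ≤ depth A M) [Nontrivial M] :
    ∃ x ∈ maximalIdeal A, IsSMulRegular A x ∧ IsSMulRegular M x := by
  classical
  have hA := gor_dim hd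
  have h1 : ∀ p ∈ associatedPrimes A A, ¬ maximalIdeal A ≤ p :=
    ((Lib.Depth.Assoc.one_le_idealDepth_iff_forall _ _).1
      (show (1 : ℕ∞) ≤ idealDepth (maximalIdeal A) A by
        show (1 : ℕ∞) ≤ depth A A; rw [← hA]; exact_mod_cast Nat.le_add_left 1 d)).resolve_left
      (Lib.Depth.Basic.smul_top_ne_top (Ideal.IsPrime.ne_top'))
  have h2 : ∀ p ∈ associatedPrimes A M, ¬ maximalIdeal A ≤ p :=
    ((Lib.Depth.Assoc.one_le_idealDepth_iff_forall _ _).1 hM).resolve_left
      (Lib.Depth.Basic.smul_top_ne_top (Ideal.IsPrime.ne_top'))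
  obtain ⟨x, hx, hreg⟩ : ∃ x ∈ maximalIdeal A, IsSMulRegular (A × M) x := by
    rw [Lib.Depth.Assoc.exists_isSMulRegular_iff]
    intro p hp
    rcases associatedPrimes.subset_union_of_exact (f := LinearMap.inl A A M) (g := LinearMap.snd A A M)
      LinearMap.inl_injective Function.Exact.inl_snd hp with h | h
    · exact h1 p h
    · exact h2 p h
  refine ⟨x, hx, fun a b h => ?_, fun a b h => ?_⟩
  · exact (Prod.ext_iff.1 (hreg (show x • (a, (0 : M)) = x • (b, (0 : M)) by simp [Prod.smul_mk]; exact h))).1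
  · exact (Prod.ext_iff.1 (hreg (show x • ((0 : A), a) = x • ((0 : A), b) by simp [Prod.smul_mk]; exact h))).2

/-- If `A/i` is maximal Cohen–Macaulay, so is `A/Ann i`. -/
theorem depth_quot_ann : ∀ (d : ℕ) (A : Type u) [CommRing A] [IsNoetherianRing A] [IsLocalRing A]
    [IsGorensteinLocalRing A], ringKrullDim A = d → ∀ i : Ideal A,
    (d : ℕ∞) ≤ depth A (A ⧸ i) → (d : ℕ∞) ≤ depth A (A ⧸ (Ann i : Ideal A)) := by
  intro d
  induction d with
  | zero => intro A _ _ _ _ _ i _; exact bot_le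
  | succ d ih =>
    intro A _ _ _ _ hd i hi
    rcases eq_or_ne i ⊤ with rfl | hne
    · have e : ((Ann (⊤ : Ideal A) : Ideal A)) = ⊥ := le_bot_iff.1 fun a ha => by
        simpa using mem_ann.1 ha 1 trivial
      rw [e, Lib.Depth.Basic.depth_congr (Submodule.quotEquivOfEqBot (⊥ : Ideal A) rfl)]
      exact (gor_dim hd).le
    haveI : Nontrivial (A ⧸ i) := Ideal.Quotient.nontrivial_iff.2 hne
    obtain ⟨x, hx, hxA, hxi⟩ := exists_regular (M := A ⧸ i) hd
      (le_trans (by exact_mod_cast Nat.le_add_left 1 d) hi)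
    haveI := Lib.Goren.Basic.isLocalRing_quotient_span hx
    haveI := (Lib.Goren.Basic.isGorensteinLocalRing_quotient_iff hx hxA).1 inferInstance
    have hi' := hi
    rw [← depth_reduce i hx hxi, Nat.cast_succ, ENat.add_le_add_iff_right ENat.one_ne_top] at hi'
    have h := ih _ (dim_quotient_span hd hx hxA) _ hi'
    rw [← map_ann hd (by omega) i hi hxA] at h
    rw [← depth_reduce _ hx (isSMulRegular_quot_ann i hxA), Nat.cast_succ]
    exact add_le_add h le_rfl

/-- Artinian base case: `A/(0 : f)` is Gorenstein. -/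
theorem gorenstein_quot_ann_zero (A : Type u) [CommRing A] [IsLocalRing A] [IsArtinianRing A]
    [IsGorensteinLocalRing A] (f : A) [IsLocalRing (A ⧸ (Ann (Ideal.span {f}) : Ideal A))] :
    IsGorensteinLocalRing (A ⧸ (Ann (Ideal.span {f}) : Ideal A)) := by
  set J : Ideal A := Ann (Ideal.span {f}) with hJ
  have : IsArtinianRing (A ⧸ J) := inferInstance
  rw [Lib.Goren.Artin.isGorensteinLocalRing_iff_socle, ← Lib.Goren.Artin.length_socle_quotient J]
  refine le_antisymm ?_ ?_
  · let μ : (A ⧸ J) →ₗ[A] A := Submodule.liftQ J (LinearMap.mulRight A f) fun a ha => by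
      have := mem_ann.1 ha f (Ideal.mem_span_singleton_self f)
      exact this
    have hμ : Function.Injective μ := by
      rw [injective_iff_map_eq_zero]
      intro z hz
      obtain ⟨a, rfl⟩ := Submodule.Quotient.mk_surjective _ z
      rw [Submodule.Quotient.mk_eq_zero, hJ, mem_ann]
      intro t ht
      obtain ⟨b, rfl⟩ := Ideal.mem_span_singleton.1 ht
      have hz' : a * f = 0 := hz
      rw [← mul_assoc, hz', zero_mul]
    have hmem : ∀ z : torsionBy (maximalIdeal A) (A ⧸ J),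
        μ z ∈ torsionBy (maximalIdeal A) A := by
      intro z
      rw [Submodule.mem_torsionBySet_iff]
      intro c
      have h := (Submodule.mem_torsionBySet_iff _ _).1 z.2 c
      show (c : A) • μ z = 0
      rw [← map_smul]
      rw [show (c : A) • (z : A ⧸ J) = 0 from h, map_zero]
    calc Module.length A (torsionBy (maximalIdeal A) (A ⧸ J))
        ≤ Module.length A (torsionBy (maximalIdeal A) A) :=
          Module.length_le_of_injective ((μ.comp (Submodule.subtype _)).codRestrict _ hmem)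
            fun a b h => Subtype.ext (hμ (congrArg Subtype.val h))
      _ = 1 := Lib.Goren.Artin.isGorensteinLocalRing_iff_socle.1 inferInstance
  · rw [Order.one_le_iff_ne_zero, ne_eq, Module.length_eq_zero_iff, not_subsingleton_iff_nontrivial]
    have hd := Lib.Goren.Artin.depth_eq_zero (A := A ⧸ J)
    rw [← Lib.Depth.CM.depth_quotient_eq J] at hd
    obtain ⟨m, hm, hk⟩ := Lib.Depth.Local.exists_smul_eq_zero_of_idealDepth_eq_zero hd
    refine ⟨⟨⟨m, ?_⟩, 0, fun h => hm (congrArg Subtype.val h)⟩⟩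
    rw [Submodule.mem_torsionBySet_iff]
    exact fun c => hk c c.2

theorem isLocalRing_quot {i : Ideal A} (hi : i ≠ ⊤) : IsLocalRing (A ⧸ i) := by
  have : Nontrivial (A ⧸ i) := Ideal.Quotient.nontrivial_iff.2 hi
  exact IsLocalRing.of_surjective' _ Ideal.Quotient.mk_surjective

theorem gorenstein_of_reduce {J : Ideal A} (hJ : J ≠ ⊤) {x : A} (hx : x ∈ maximalIdeal A)
    (hxJ : IsSMulRegular (A ⧸ J) x) [IsLocalRing ((A ⧸ Ideal.span {x}) ⧸ J.map (Ideal.Quotient.mk (Ideal.span {x})))]
    (h : IsGorensteinLocalRing ((A ⧸ Ideal.span {x}) ⧸ J.map (Ideal.Quotient.mk (Ideal.span {x})))) :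
    IsGorensteinLocalRing (A ⧸ J) := by
  haveI := isLocalRing_quot hJ
  have hxm : Ideal.Quotient.mk J x ∈ maximalIdeal (A ⧸ J) := by
    haveI : IsLocalHom (Ideal.Quotient.mk J) := IsLocalHom.of_surjective _ Ideal.Quotient.mk_surjective
    exact fun hu => hx (IsUnit.of_map (Ideal.Quotient.mk J) x hu)
  have hreg : IsSMulRegular (A ⧸ J) (Ideal.Quotient.mk J x) := by
    intro a b hab
    exact hxJ (show x • a = x • b by
      simpa [Algebra.smul_def, smul_eq_mul] using hab)
  rw [Lib.Goren.Basic.isGorensteinLocalRing_quotient_iff hxm hreg]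
  haveI := h
  let e : ((A ⧸ Ideal.span {x}) ⧸ J.map (Ideal.Quotient.mk (Ideal.span {x}))) ≃+*
      ((A ⧸ J) ⧸ Ideal.span {Ideal.Quotient.mk J x}) :=
    (DoubleQuot.quotQuotEquivComm (Ideal.span {x}) J).trans
      (Ideal.quotEquivOfEq (by rw [Ideal.map_span, Set.image_singleton]))
  exact Lib.Goren.Flat.isGorensteinLocalRing_ringEquiv e

/-- If `A/(f)` is maximal Cohen–Macaulay then `A/(0 : f)` is Gorenstein. -/
theorem gorenstein_quot_ann : ∀ (d : ℕ) (A : Type u) [CommRing A] [IsNoetherianRing A] [IsLocalRing A]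
    [IsGorensteinLocalRing A], ringKrullDim A = d → ∀ f : A,
    (d : ℕ∞) ≤ depth A (A ⧸ Ideal.span {f}) → (Ann (Ideal.span {f}) : Ideal A) ≠ ⊤ →
    IsGorensteinLocalRing (A ⧸ (Ann (Ideal.span {f}) : Ideal A)) := by
  intro d
  induction d with
  | zero =>
    intro A _ _ _ _ hd f _ hne
    haveI : IsArtinianRing A := isArtinianRing_iff_krullDimLE_zero.2 (Ring.krullDimLE_iff.2 (by rw [hd]))
    haveI := isLocalRing_quot hne
    exact gorenstein_quot_ann_zero A f
  | succ d ih =>
    intro A _ _ _ _ hd f hf hne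
    obtain ⟨x, hx, hxA, hxi⟩ : ∃ x ∈ maximalIdeal A, IsSMulRegular A x ∧
        IsSMulRegular (A ⧸ Ideal.span {f}) x := by
      rcases subsingleton_or_nontrivial (A ⧸ Ideal.span {f}) with h | h
      · obtain ⟨x, hx, hxA, -⟩ := exists_regular (M := A) hd
          (by rw [← gor_dim hd]; exact_mod_cast Nat.le_add_left 1 d)
        exact ⟨x, hx, hxA, fun a b _ => Subsingleton.elim a b⟩
      · exact exists_regular (M := A ⧸ Ideal.span {f}) hd
          (le_trans (by exact_mod_cast Nat.le_add_left 1 d) hf)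
    haveI := Lib.Goren.Basic.isLocalRing_quotient_span hx
    haveI := (Lib.Goren.Basic.isGorensteinLocalRing_quotient_iff hx hxA).1 inferInstance
    have hf' := hf
    rw [← depth_reduce _ hx hxi, Nat.cast_succ, ENat.add_le_add_iff_right ENat.one_ne_top] at hf'
    have hann := map_ann hd (by omega) (Ideal.span {f}) hf hxA
    rw [Ideal.map_span, Set.image_singleton] at hf' hann
    have hne' : (Ann (Ideal.span {f}) : Ideal A).map (Ideal.Quotient.mk (Ideal.span {x})) ≠ ⊤ := by
      intro h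
      refine (maximalIdeal.isMaximal (A ⧸ Ideal.span {x})).ne_top (top_le_iff.1 ?_)
      rw [← h, Ideal.map_le_iff_le_comap]
      intro a ha hu
      haveI : IsLocalHom (Ideal.Quotient.mk (Ideal.span {x})) :=
        IsLocalHom.of_surjective _ Ideal.Quotient.mk_surjective
      exact le_maximalIdeal hne ha (IsUnit.of_map (Ideal.Quotient.mk (Ideal.span {x})) a hu)
    haveI := isLocalRing_quot hne'
    have hg := ih _ (dim_quotient_span hd hx hxA) (Ideal.Quotient.mk (Ideal.span {x}) f) hf' (hann ▸ hne')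
    rw [← hann] at hg
    exact gorenstein_of_reduce hne hx (isSMulRegular_quot_ann _ hxA) hg

end Groth.Agent.H2.Liaison.Dual
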