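import Groth.Agent.H2.Liaison.Dual
import Groth.Agent.H25.CMUnmixed
import Mathlib.RingTheory.Ideal.KrullsHeightTheorem

/-!
# The sum of two geometrically linked ideals in a Gorenstein local ring
-/

set_option autoImplicit false
set_option linter.style.haveILetI false
set_option linter.overlappingInstances false
set_option linter.unusedSectionVars false

universe u

open IsLocalRing LocCoh

namespace Groth.Agent.H2.Liaison.DualSum

open Groth.Agent.H2.Liaison.Basic Groth.Agent.H2.Liaison.Dual

local notation "Ann" i => Submodule.colon (⊥ : Ideal _) (SetLike.coe i)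

theorem depth_sup {A : Type u} [CommRing A] [IsNoetherianRing A] [IsLocalRing A]
    [IsGorensteinLocalRing A] {d : ℕ} (hd : ringKrullDim A = d) (i j : Ideal A) (hij : i ⊓ j = ⊥)
    (hi : (d : ℕ∞) ≤ depth A (A ⧸ i)) (hj : (d : ℕ∞) ≤ depth A (A ⧸ j)) :
    ((d - 1 : ℕ) : ℕ∞) ≤ depth A (A ⧸ (i ⊔ j)) := by
  rcases Nat.eq_zero_or_pos d with rfl | hd1
  · exact bot_le
  let f : A →ₗ[A] (A ⧸ i) × (A ⧸ j) := i.mkQ.prod j.mkQ
  let g : ((A ⧸ i) × (A ⧸ j)) →ₗ[A] (A ⧸ (i ⊔ j)) :=
    (Submodule.factor (le_sup_left : i ≤ i ⊔ j)).comp (LinearMap.fst A _ _) -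
      (Submodule.factor (le_sup_right : j ≤ i ⊔ j)).comp (LinearMap.snd A _ _)
  have hgv : ∀ a b : A, g (Submodule.Quotient.mk a, Submodule.Quotient.mk b) =
      Submodule.Quotient.mk (a - b) := fun a b => rfl
  have hf : Function.Injective f := by
    rw [injective_iff_map_eq_zero]
    intro a ha
    have h1 : a ∈ i := (Submodule.Quotient.mk_eq_zero i).1 (congrArg Prod.fst ha)
    have h2 : a ∈ j := (Submodule.Quotient.mk_eq_zero j).1 (congrArg Prod.snd ha)
    exact (Submodule.mem_bot A).1 (hij ▸ ⟨h1, h2⟩)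
  have hg : Function.Surjective g := fun z => by
    obtain ⟨a, rfl⟩ := Submodule.Quotient.mk_surjective _ z
    exact ⟨(Submodule.Quotient.mk a, Submodule.Quotient.mk 0), by rw [hgv, sub_zero]⟩
  have hfg : Function.Exact f g := by
    rintro ⟨u, v⟩
    obtain ⟨a, rfl⟩ := Submodule.Quotient.mk_surjective _ u
    obtain ⟨b, rfl⟩ := Submodule.Quotient.mk_surjective _ v
    rw [hgv, Submodule.Quotient.mk_eq_zero]
    constructor
    · intro h
      obtain ⟨s, hs, t, ht, hst⟩ := Submodule.mem_sup.1 h
      refine ⟨a - s, Prod.ext ?_ ?_⟩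
      · exact (Submodule.Quotient.eq i).2 (by simpa using hs)
      · refine (Submodule.Quotient.eq j).2 ?_
        rw [show a - s - b = t by linear_combination -hst]
        exact ht
    · rintro ⟨c, hc⟩
      have h1 : c - a ∈ i := (Submodule.Quotient.eq i).1 (congrArg Prod.fst hc)
      have h2 : c - b ∈ j := (Submodule.Quotient.eq j).1 (congrArg Prod.snd hc)
      rw [show a - b = (c - b) - (c - a) by ring]
      exact sub_mem (Ideal.mem_sup_right h2) (Ideal.mem_sup_left h1)
  have hmid : (d : ℕ∞) ≤ idealDepth (maximalIdeal A) ((A ⧸ i) × (A ⧸ j)) :=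
    Lib.Depth.SES.le_idealDepth_middle (f := LinearMap.inl A (A ⧸ i) (A ⧸ j))
      (g := LinearMap.snd A (A ⧸ i) (A ⧸ j)) (hf := LinearMap.inl_injective)
      (hfg := Function.Exact.inl_snd) (hg := LinearMap.snd_surjective) (h1 := hi) (h3 := hj)
  refine Lib.Depth.SES.le_idealDepth_right (f := f) (g := g) (hf := hf) (hfg := hfg) (hg := hg)
    (h2 := le_trans (by exact_mod_cast Nat.sub_le d 1) hmid) (h1 := ?_)
  show ((d - 1 + 1 : ℕ) : ℕ∞) ≤ depth A A
  rw [← gor_dim hd, Nat.sub_add_cancel hd1]

theorem isCM_of_gor (A : Type u) [CommRing A] [IsLocalRing A] [IsGorensteinLocalRing A] :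
    IsCohenMacaulayLocalRing A := by
  obtain ⟨n, hn⟩ := IsGorensteinLocalRing.exists_hasInjectiveDimensionLT (A := A)
  obtain ⟨d', -, -, hCM, -⟩ := Lib.Goren.Basic.exists_dim hn
  exact hCM

theorem gorenstein_quot_sup : ∀ (d : ℕ) (A : Type u) [CommRing A] [IsNoetherianRing A] [IsLocalRing A]
    [IsGorensteinLocalRing A], ringKrullDim A = d → ∀ i j : Ideal A, i ⊓ j = ⊥ →
    (Ann i : Ideal A) = j → (Ann j : Ideal A) = i →
    (d : ℕ∞) ≤ depth A (A ⧸ i) → (d : ℕ∞) ≤ depth A (A ⧸ j) →
    (∀ P ∈ minimalPrimes A, ¬ i ⊔ j ≤ P) → i ⊔ j ≠ ⊤ →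
    IsGorensteinLocalRing (A ⧸ (i ⊔ j)) := by
  intro d
  induction d with
  | zero =>
    intro A _ _ _ _ hd i j _ _ _ _ _ hmin hne
    exfalso
    haveI : Ring.KrullDimLE 0 A := Ring.krullDimLE_iff.2 (by rw [hd])
    refine hmin (maximalIdeal A) ⟨⟨inferInstance, bot_le⟩, fun q hq hle => ?_⟩ (le_maximalIdeal hne)
    haveI := hq.1
    exact (eq_maximalIdeal (Ideal.IsPrime.isMaximal' hq.1)).ge
  | succ d ih =>
    intro A _ _ _ _ hd i j hij hi' hj' hi hj hmin hne
    haveI := isCM_of_gor A
    haveI := isLocalRing_quot hne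
    rcases Nat.eq_zero_or_pos d with rfl | hd1
    · obtain ⟨y, hy, hyA⟩ : ∃ y ∈ i ⊔ j, IsSMulRegular A y := by
        rw [Lib.Depth.Assoc.exists_isSMulRegular_iff]
        exact fun p hp => hmin p (H25.CMUnmixed.mem_minimalPrimes_of_local A hp)
      obtain ⟨s, hs, t, ht, hst⟩ := Submodule.mem_sup.1 hy
      have hym : y ∈ maximalIdeal A := le_maximalIdeal hne hy
      haveI := Lib.Goren.Basic.isLocalRing_quotient_span hym
      haveI := (Lib.Goren.Basic.isGorensteinLocalRing_quotient_iff hym hyA).1 inferInstance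
      have hdim := dim_quotient_span hd hym hyA
      haveI : IsArtinianRing (A ⧸ Ideal.span {y}) :=
        isArtinianRing_iff_krullDimLE_zero.2 (Ring.krullDimLE_iff.2 (by rw [hdim]))
      set π := Ideal.Quotient.mk (Ideal.span {y})
      have e1 := map_ann hd le_rfl i hi hyA
      have e2 := map_ann hd le_rfl j hj hyA
      rw [hi'] at e1
      rw [hj'] at e2
      have hK : (Ann ((i ⊔ j).map π) : Ideal (A ⧸ Ideal.span {y})) =
          Ideal.span {π s} := by
        apply le_antisymm
        · intro z hz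
          have hzj : z ∈ j.map π := by
            rw [e1]
            exact Submodule.colon_mono le_rfl (Ideal.map_mono le_sup_left) hz
          have hzi : z ∈ i.map π := by
            rw [e2]
            exact Submodule.colon_mono le_rfl (Ideal.map_mono le_sup_right) hz
          obtain ⟨a, ha, rfl⟩ := (Ideal.mem_map_iff_of_surjective _ Ideal.Quotient.mk_surjective).1 hzi
          obtain ⟨b, hb, hab⟩ := (Ideal.mem_map_iff_of_surjective _ Ideal.Quotient.mk_surjective).1 hzj
          rw [Ideal.Quotient.mk_eq_mk_iff_sub_mem, Ideal.mem_span_singleton] at hab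
          obtain ⟨w, hw⟩ := hab
          have h0 : a + s * w ∈ i ⊓ j := ⟨add_mem ha (i.mul_mem_right w hs), by
            rw [show a + s * w = b - t * w by linear_combination w * hst - hw]
            exact sub_mem hb (j.mul_mem_right w ht)⟩
          rw [hij, Submodule.mem_bot] at h0
          refine Ideal.mem_span_singleton.2 ⟨π (-w), ?_⟩
          rw [← map_mul]
          congr 1
          linear_combination h0
        · rw [Ideal.span_singleton_le_iff_mem, Ideal.map_sup, mem_ann]
          intro u hu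
          obtain ⟨a, ha, b, hb, rfl⟩ := Submodule.mem_sup.1 hu
          have hsj : π s ∈ j.map π := by
            have : π s = π (-t) := by
              rw [Ideal.Quotient.mk_eq_mk_iff_sub_mem, show s - -t = y by rw [← hst]; ring]
              exact Ideal.mem_span_singleton_self y
            rw [this]
            exact Ideal.mem_map_of_mem _ (neg_mem ht)
          have hsi : π s ∈ i.map π := Ideal.mem_map_of_mem _ hs
          rw [e1] at hsj
          rw [e2] at hsi
          rw [mul_add, mem_ann.1 hsj a ha, mem_ann.1 hsi b hb, add_zero]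
      have h2 := colon_colon_bot ((i ⊔ j).map π)
      rw [hK] at h2
      have hne' : (Ann (Ideal.span {π s}) : Ideal (A ⧸ Ideal.span {y})) ≠ ⊤ := by
        rw [h2]
        intro h
        refine (maximalIdeal.isMaximal (A ⧸ Ideal.span {y})).ne_top (top_le_iff.1 ?_)
        rw [← h, Ideal.map_le_iff_le_comap]
        intro a ha hu
        haveI : IsLocalHom π := IsLocalHom.of_surjective _ Ideal.Quotient.mk_surjective
        exact le_maximalIdeal hne ha (IsUnit.of_map π a hu)
      haveI := isLocalRing_quot hne'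
      haveI := gorenstein_quot_ann_zero (A ⧸ Ideal.span {y}) (π s)
      let e : ((A ⧸ Ideal.span {y}) ⧸ (Ann (Ideal.span {π s}) : Ideal (A ⧸ Ideal.span {y}))) ≃+*
          (A ⧸ (i ⊔ j)) :=
        (Ideal.quotEquivOfEq h2).trans
          (DoubleQuot.quotQuotEquivQuotOfLE ((Ideal.span_singleton_le_iff_mem _).2 hy))
      exact Lib.Goren.Flat.isGorensteinLocalRing_ringEquiv e
    · haveI : Nontrivial (A ⧸ (i ⊔ j)) := Ideal.Quotient.nontrivial_iff.2 hne
      have hsup := depth_sup hd i j hij hi hj
      obtain ⟨x, hx, hxA, hxs⟩ := exists_regular (M := A ⧸ (i ⊔ j)) hd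
        (le_trans (by exact_mod_cast (show 1 ≤ d + 1 - 1 by omega)) hsup)
      haveI := Lib.Goren.Basic.isLocalRing_quotient_span hx
      haveI := (Lib.Goren.Basic.isGorensteinLocalRing_quotient_iff hx hxA).1 inferInstance
      have hxi : IsSMulRegular (A ⧸ i) x := hj' ▸ isSMulRegular_quot_ann j hxA
      have hxj : IsSMulRegular (A ⧸ j) x := hi' ▸ isSMulRegular_quot_ann i hxA
      have e1 := map_ann hd (by omega) i hi hxA
      have e2 := map_ann hd (by omega) j hj hxA
      rw [hi'] at e1
      rw [hj'] at e2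
      have di := hi
      have dj := hj
      rw [← depth_reduce i hx hxi, Nat.cast_succ, ENat.add_le_add_iff_right ENat.one_ne_top] at di
      rw [← depth_reduce j hx hxj, Nat.cast_succ, ENat.add_le_add_iff_right ENat.one_ne_top] at dj
      set π := Ideal.Quotient.mk (Ideal.span {x})
      have hinf : i.map π ⊓ j.map π = ⊥ := by
        rw [eq_bot_iff]
        rintro z ⟨hzi, hzj⟩
        obtain ⟨a, ha, rfl⟩ := (Ideal.mem_map_iff_of_surjective _ Ideal.Quotient.mk_surjective).1 hzi
        obtain ⟨b, hb, hab⟩ := (Ideal.mem_map_iff_of_surjective _ Ideal.Quotient.mk_surjective).1 hzj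
        rw [Ideal.Quotient.mk_eq_mk_iff_sub_mem, Ideal.mem_span_singleton] at hab
        obtain ⟨w, hw⟩ := hab
        have hw' : w ∈ i ⊔ j := by
          rw [← Submodule.Quotient.mk_eq_zero]
          refine (isSMulRegular_iff_right_eq_zero_of_smul.1 hxs) _ ?_
          rw [← Submodule.Quotient.mk_smul, Submodule.Quotient.mk_eq_zero, smul_eq_mul, ← hw]
          exact sub_mem (Ideal.mem_sup_right hb) (Ideal.mem_sup_left ha)
        obtain ⟨a1, ha1, b1, hb1, rfl⟩ := Submodule.mem_sup.1 hw'
        have h0 : a + x * a1 ∈ i ⊓ j := ⟨add_mem ha (i.mul_mem_left x ha1), by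
          rw [show a + x * a1 = b - x * b1 by linear_combination -hw]
          exact sub_mem hb (j.mul_mem_left x hb1)⟩
        rw [hij, Submodule.mem_bot] at h0
        rw [Submodule.mem_bot, Ideal.Quotient.eq_zero_iff_mem]
        exact Ideal.mem_span_singleton.2 ⟨-a1, by linear_combination h0⟩
      have hmin' : ∀ P ∈ minimalPrimes (A ⧸ Ideal.span {x}), ¬ i.map π ⊔ j.map π ≤ P := by
        intro P hP hle
        haveI := hP.1.1
        set P0 := P.comap π
        have hijP : i ⊔ j ≤ P0 := by
          rw [← Ideal.map_sup, Ideal.map_le_iff_le_comap] at hle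
          exact hle
        have hxP : Ideal.span {x} ≤ P0 := fun a ha => by
          show π a ∈ P
          rw [Ideal.Quotient.eq_zero_iff_mem.2 ha]
          exact P.zero_mem
        have hP0 : P0 ∈ (Ideal.span {x}).minimalPrimes := by
          refine ⟨⟨inferInstance, hxP⟩, fun q hq hqle => ?_⟩
          haveI := hq.1
          have hk : RingHom.ker π ≤ q := by rw [Ideal.mk_ker]; exact hq.2
          have h1 : q.map π ≤ P := Ideal.map_le_iff_le_comap.2 hqle
          have h2 := hP.2 ⟨Ideal.map_isPrime_of_surjective Ideal.Quotient.mk_surjective hk, bot_le⟩ h1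
          have h3 := Ideal.comap_mono (f := π) h2
          rwa [Ideal.comap_map_of_surjective _ Ideal.Quotient.mk_surjective,
            ← RingHom.ker_eq_comap_bot, sup_eq_left.2 hk] at h3
        have hht : P0.height ≤ 1 :=
          Ideal.height_le_one_of_isPrincipal_of_mem_minimalPrimes (Ideal.span {x}) P0 hP0
        obtain ⟨Q, hQ, hQle⟩ := Ideal.exists_minimalPrimes_le hijP
        haveI := hQ.1.1
        rcases hQle.eq_or_lt with h | h
        · have hass := minimalPrimes_subset_associatedPrimes (i ⊔ j) hQ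
          have hnot := (Lib.Depth.Assoc.exists_isSMulRegular_iff (Ideal.span {x}) (A ⧸ (i ⊔ j))).1
            ⟨x, Ideal.mem_span_singleton_self x, hxs⟩ Q hass
          exact hnot (h ▸ hxP)
        · obtain ⟨Q', hQ', hQ'le⟩ := Ideal.exists_minimalPrimes_le (bot_le : (⊥ : Ideal A) ≤ Q)
          haveI := hQ'.1.1
          have hlt : Q' < Q := lt_of_le_of_ne hQ'le fun e => hmin Q' hQ' (e ▸ hQ.1.2)
          have h1 := Ideal.height_add_one_le_of_lt_of_isPrime hlt
          have h2 := Ideal.height_add_one_le_of_lt_of_isPrime h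
          have h3 : ((2 : ℕ) : ℕ∞) ≤ P0.height := by
            refine le_trans ?_ ((add_le_add h1 le_rfl).trans h2)
            rw [add_assoc]
            exact le_add_left (le_of_eq (by norm_num))
          have h4 : ((2 : ℕ) : ℕ∞) ≤ ((1 : ℕ) : ℕ∞) := h3.trans (by exact_mod_cast hht)
          exact absurd (ENat.natCast_le_natCast.1 h4) (by norm_num)
      have hne' : i.map π ⊔ j.map π ≠ ⊤ := by
        intro h
        rw [← Ideal.map_sup] at h
        refine (maximalIdeal.isMaximal (A ⧸ Ideal.span {x})).ne_top (top_le_iff.1 ?_)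
        rw [← h, Ideal.map_le_iff_le_comap]
        intro a ha hu
        haveI : IsLocalHom π := IsLocalHom.of_surjective _ Ideal.Quotient.mk_surjective
        exact le_maximalIdeal hne ha (IsUnit.of_map π a hu)
      haveI := isLocalRing_quot hne'
      have hg := ih _ (dim_quotient_span hd hx hxA) _ _ hinf e1.symm e2.symm di dj hmin' hne'
      let e : ((A ⧸ Ideal.span {x}) ⧸ (i.map π ⊔ j.map π)) ≃+*
          ((A ⧸ Ideal.span {x}) ⧸ (i ⊔ j).map π) :=
        Ideal.quotEquivOfEq (by rw [Ideal.map_sup])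
      haveI : IsLocalRing ((A ⧸ Ideal.span {x}) ⧸ (i ⊔ j).map π) := e.isLocalRing
      exact gorenstein_of_reduce hne hx hxs (Lib.Goren.Flat.isGorensteinLocalRing_ringEquiv e)

end Groth.Agent.H2.Liaison.DualSum
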