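import Groth.Agent.H2.Liaison.Main
import Groth.Agent.H2.Liaison.DualSum

/-!
# Linkage of homogeneous ideals: Cohen–Macaulay and Gorenstein transfer
-/

set_option autoImplicit false
set_option linter.style.haveILetI false
set_option linter.overlappingInstances false
set_option linter.unusedSectionVars false
set_option linter.unusedVariables false

universe u

open IsLocalRing LocCoh

namespace Groth.Agent.H2.Liaison.Global

open Groth.Agent.H2.Liaison.Basic Groth.Agent.H2.Liaison.Poly Groth.Agent.H2.Liaison.Dual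
  Groth.Agent.H2.Liaison.Main Groth.Agent.H2.Liaison.DualSum Groth.Agent.Lib.Dim.Basic

/-- `A/i` maximal Cohen–Macaulay when it is CM and `i` lies in a minimal prime -/
theorem le_depth_quot {A : Type u} [CommRing A] [IsCohenMacaulayLocalRing A] {d : ℕ}
    (hd : ringKrullDim A = d) {i q : Ideal A} (hq : q ∈ minimalPrimes A) (hiq : i ≤ q)
    [IsLocalRing (A ⧸ i)] (hcm : IsCohenMacaulayLocalRing (A ⧸ i)) :
    (d : ℕ∞) ≤ depth A (A ⧸ i) := by
  haveI := hcm
  have hass : q ∈ associatedPrimes A A := by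
    refine Module.associatedPrimes.minimalPrimes_annihilator_subset_associatedPrimes _ _ ?_
    rwa [Module.annihilator_eq_bot.mpr inferInstance]
  have h1 := Lib.Depth.CM.ringKrullDim_quotient_eq (Lib.Depth.CM.isCohenMacaulayModule_self (R := A)) hass
  rw [Module.supportDim_self_eq_ringKrullDim, hd] at h1
  have h2 : ringKrullDim (A ⧸ q) ≤ ringKrullDim (A ⧸ i) :=
    ringKrullDim_le_of_surjective _ (Ideal.Quotient.factor_surjective hiq)
  rw [h1, Lib.Depth.CM.ringKrullDim_eq_depth, ← Lib.Depth.CM.depth_quotient_eq] at h2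
  exact_mod_cast h2

theorem isCM_of_le_depth {A : Type u} [CommRing A] [IsNoetherianRing A] [IsLocalRing A] {d : ℕ}
    (hd : ringKrullDim A = d) (i : Ideal A) [IsLocalRing (A ⧸ i)]
    (h : (d : ℕ∞) ≤ depth A (A ⧸ i)) : IsCohenMacaulayLocalRing (A ⧸ i) := by
  rw [Lib.Depth.CM.isCohenMacaulayLocalRing_iff, ← Lib.Depth.CM.depth_quotient_eq]
  refine le_trans (ringKrullDim_le_of_surjective _ Ideal.Quotient.mk_surjective) ?_
  rw [hd]
  exact_mod_cast h

theorem dim_quot_congr {B : Type u} [CommRing B] {I J : Ideal B} (h : I = J) :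
    ringKrullDim (B ⧸ I) = ringKrullDim (B ⧸ J) := by rw [h]

theorem gor_quot_congr {B : Type u} [CommRing B] {I J : Ideal B} (h : I = J)
    (hg : IsGorensteinLocalRing (B ⧸ I)) : IsGorensteinLocalRing (B ⧸ J) := by subst h; exact hg

theorem gor_quotQuot {B : Type u} [CommRing B] {C I : Ideal B} (h : C ≤ I)
    (hg : IsGorensteinLocalRing ((B ⧸ C) ⧸ I.map (Ideal.Quotient.mk C))) :
    IsGorensteinLocalRing (B ⧸ I) :=
  haveI := hg
  Lib.Goren.Flat.isGorensteinLocalRing_ringEquiv (DoubleQuot.quotQuotEquivQuotOfLE h)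

theorem cm_quotQuot {B : Type u} [CommRing B] {C I : Ideal B} (h : C ≤ I)
    (hg : IsCohenMacaulayLocalRing ((B ⧸ C) ⧸ I.map (Ideal.Quotient.mk C))) :
    IsCohenMacaulayLocalRing (B ⧸ I) :=
  haveI := hg
  Lib.Excellent.Transport.isCohenMacaulayLocalRing_of_ringEquiv (DoubleQuot.quotQuotEquivQuotOfLE h)

section Loc

variable {R : Type u} [CommRing R] (C I p : Ideal R) [p.IsPrime]

/-- the image of `I` in the local ring of `R ⧸ C` at `p` -/
noncomputable abbrev loc : Ideal (LQ C p) :=
  (I.map (algebraMap R (Localization.AtPrime p))).map (Ideal.Quotient.mk _)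

/-- quotient of `LQ C p` by the image of `I` -/
noncomputable def locQuot (hCI : C ≤ I) : (LQ C p ⧸ loc C I p) ≃+* LQ I p :=
  DoubleQuot.quotQuotEquivQuotOfLE (Ideal.map_mono hCI)

theorem loc_colon [IsNoetherianRing R] :
    loc C (C.colon (I : Set R)) p = (⊥ : Ideal (LQ C p)).colon ((loc C I p : Ideal (LQ C p)) : Set (LQ C p)) := by
  apply le_antisymm
  · rw [loc, colon_map p.primeCompl _ (IsNoetherian.noetherian I), Ideal.map_le_iff_le_comap]
    intro x hx
    rw [Ideal.mem_comap, Submodule.mem_colon]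
    intro s hs
    obtain ⟨s, hs', rfl⟩ := (Ideal.mem_map_iff_of_surjective _ Ideal.Quotient.mk_surjective).1 hs
    rw [Submodule.mem_bot, smul_eq_mul, ← map_mul, Ideal.Quotient.eq_zero_iff_mem]
    exact Submodule.mem_colon.1 hx s hs'
  · intro y hy
    obtain ⟨x, rfl⟩ := Ideal.Quotient.mk_surjective y
    rw [loc, colon_map p.primeCompl _ (IsNoetherian.noetherian I)]
    refine Ideal.mem_map_of_mem _ (Submodule.mem_colon.2 fun s hs => ?_)
    have := Submodule.mem_colon.1 hy _ (Ideal.mem_map_of_mem _ hs)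
    rwa [Submodule.mem_bot, smul_eq_mul, ← map_mul, Ideal.Quotient.eq_zero_iff_mem] at this

theorem loc_sup {J : Ideal R} : loc C (I ⊔ J) p = loc C I p ⊔ loc C J p := by
  rw [loc, Ideal.map_sup, Ideal.map_sup]

theorem loc_eq_top (hI : ¬ I ≤ p) : loc C I p = ⊤ := by
  obtain ⟨x, hx, hxp⟩ := SetLike.not_le_iff_exists.1 hI
  refine Ideal.eq_top_of_isUnit_mem _ (Ideal.mem_map_of_mem _ (Ideal.mem_map_of_mem _ hx)) ?_
  exact (IsLocalization.map_units (Localization.AtPrime p) (⟨x, hxp⟩ : p.primeCompl)).map _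

theorem loc_ne_top (hCI : C ≤ I) (hIp : I ≤ p) : loc C I p ≠ ⊤ := by
  intro h
  have h2 := congrArg (Ideal.comap (Ideal.Quotient.mk _)) h
  rw [Ideal.comap_map_of_surjective _ Ideal.Quotient.mk_surjective, ← RingHom.ker_eq_comap_bot,
    Ideal.mk_ker, sup_eq_left.2 (Ideal.map_mono hCI), Ideal.comap_top] at h2
  exact map_ne_top I p hIp h2

theorem loc_inf {J : Ideal R} (h : I ⊓ J = C) : loc C I p ⊓ loc C J p = ⊥ := by
  rw [eq_bot_iff]
  rintro z ⟨hzI, hzJ⟩
  obtain ⟨a, ha, rfl⟩ := (Ideal.mem_map_iff_of_surjective _ Ideal.Quotient.mk_surjective).1 hzI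
  have hCJ : C.map (algebraMap R (Localization.AtPrime p)) ≤ J.map (algebraMap R _) :=
    Ideal.map_mono (h ▸ inf_le_right)
  obtain ⟨b, hb, hab⟩ := (Ideal.mem_map_iff_of_surjective _ Ideal.Quotient.mk_surjective).1 hzJ
  have ha' : a ∈ J.map (algebraMap R (Localization.AtPrime p)) := by
    rw [Ideal.Quotient.mk_eq_mk_iff_sub_mem] at hab
    have := sub_mem hb (hCJ hab)
    rwa [sub_sub_cancel] at this
  rw [Submodule.mem_bot, Ideal.Quotient.eq_zero_iff_mem, ← h, IsLocalization.map_inf p.primeCompl]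
  exact ⟨ha, ha'⟩

theorem exists_minimal_lq {q : Ideal R} (hq : q ∈ C.minimalPrimes) (hqp : q ≤ p) :
    loc C q p ∈ minimalPrimes (LQ C p) := by
  haveI := hq.1.1
  have hd : Disjoint (p.primeCompl : Set R) (q : Set R) :=
    Set.disjoint_left.2 fun x hx hxQ => hx (hqp hxQ)
  set Q' := q.map (algebraMap R (Localization.AtPrime p))
  haveI : Q'.IsPrime := IsLocalization.isPrime_of_isPrime_disjoint p.primeCompl _ q ‹_› hd
  have hmin : Q' ∈ (C.map (algebraMap R (Localization.AtPrime p))).minimalPrimes := by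
    rw [IsLocalization.minimalPrimes_map p.primeCompl (Localization.AtPrime p) C]
    show Q'.under R ∈ C.minimalPrimes
    rwa [IsLocalization.under_map_of_isPrime_disjoint p.primeCompl _ ‹_› hd]
  have hker : RingHom.ker (Ideal.Quotient.mk (C.map (algebraMap R (Localization.AtPrime p)))) ≤ Q' := by
    rw [Ideal.mk_ker]; exact hmin.1.2
  refine ⟨⟨Ideal.map_isPrime_of_surjective Ideal.Quotient.mk_surjective hker, bot_le⟩, fun q' hq' hle' => ?_⟩
  haveI := hq'.1
  have h1 : q'.comap (Ideal.Quotient.mk (C.map (algebraMap R (Localization.AtPrime p)))) ≤ Q' := by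
    refine (Ideal.comap_mono hle').trans ?_
    rw [Ideal.comap_map_of_surjective _ Ideal.Quotient.mk_surjective, ← RingHom.ker_eq_comap_bot]
    exact sup_le le_rfl hker
  have h2 := hmin.2 ⟨inferInstance, by
    intro x hx
    rw [Ideal.mem_comap, Ideal.Quotient.eq_zero_iff_mem.2 hx]
    exact q'.zero_mem⟩ h1
  exact Ideal.map_le_iff_le_comap.2 h2

theorem comap_minimal_lq {P : Ideal (LQ C p)} (hP : P ∈ minimalPrimes (LQ C p)) :
    ((P.comap (Ideal.Quotient.mk _)).comap (algebraMap R (Localization.AtPrime p))) ∈ C.minimalPrimes := by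
  haveI := hP.1.1
  set π := Ideal.Quotient.mk (C.map (algebraMap R (Localization.AtPrime p)))
  have hmin : P.comap π ∈ (C.map (algebraMap R (Localization.AtPrime p))).minimalPrimes := by
    refine ⟨⟨inferInstance, fun a ha => ?_⟩, fun q hq hle => ?_⟩
    · show π a ∈ P
      rw [Ideal.Quotient.eq_zero_iff_mem.2 ha]
      exact P.zero_mem
    · haveI := hq.1
      have hk : RingHom.ker π ≤ q := by rw [Ideal.mk_ker]; exact hq.2
      have h2 := hP.2 ⟨Ideal.map_isPrime_of_surjective Ideal.Quotient.mk_surjective hk, bot_le⟩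
        (Ideal.map_le_iff_le_comap.2 hle)
      have h3 := Ideal.comap_mono (f := π) h2
      rwa [Ideal.comap_map_of_surjective _ Ideal.Quotient.mk_surjective,
        ← RingHom.ker_eq_comap_bot, sup_eq_left.2 hk] at h3
  rw [IsLocalization.minimalPrimes_map p.primeCompl (Localization.AtPrime p) C] at hmin
  exact hmin

theorem comap_eq_comap_inj {P P' : Ideal (R ⧸ C)}
    (h : P.comap (Ideal.Quotient.mk C) = P'.comap (Ideal.Quotient.mk C)) : P = P' := by
  rw [← Ideal.map_comap_of_surjective _ Ideal.Quotient.mk_surjective P, h,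
    Ideal.map_comap_of_surjective _ Ideal.Quotient.mk_surjective]

theorem exists_comap (P : Ideal (R ⧸ C)) [P.IsPrime] :
    ∃ (q : Ideal R) (_ : q.IsPrime), C ≤ q ∧ Nonempty (Localization.AtPrime P ≃+* LQ C q) := by
  refine ⟨P.comap (Ideal.Quotient.mk C), inferInstance, fun x hx => ?_, ?_⟩
  · show Ideal.Quotient.mk C x ∈ P
    rw [Ideal.Quotient.eq_zero_iff_mem.2 hx]
    exact P.zero_mem
  · obtain ⟨P', hP', h, ⟨e⟩⟩ := exists_localization C (P.comap (Ideal.Quotient.mk C)) (fun x hx => by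
      show Ideal.Quotient.mk C x ∈ P
      rw [Ideal.Quotient.eq_zero_iff_mem.2 hx]
      exact P.zero_mem)
    obtain rfl := comap_eq_comap_inj C h
    exact ⟨e⟩

end Loc

variable {k : Type u} [Field k] {n c : ℕ}

local notation "S" => MvPolynomial (Fin (n + 1)) k
local notation "𝒢" => CohB1.polyGrading n k

theorem isCMRing_of_local {C : Ideal S}
    (h : ∀ (q : Ideal S) [q.IsPrime], C ≤ q → IsCohenMacaulayLocalRing (LQ C q)) :
    IsCohenMacaulayRing (S ⧸ C) where
  isCohenMacaulayLocalRing_localization P _ := by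
    obtain ⟨q, hq, hCq, ⟨e⟩⟩ := exists_comap C P
    haveI := h q hCq
    exact Lib.Excellent.Transport.isCohenMacaulayLocalRing_of_ringEquiv e.symm

theorem isGorRing_of_local {C : Ideal S}
    (h : ∀ (q : Ideal S) [q.IsPrime], C ≤ q → IsGorensteinLocalRing (LQ C q)) :
    IsGorensteinRing (S ⧸ C) where
  isGorensteinLocalRing_localization P _ := by
    obtain ⟨q, hq, hCq, ⟨e⟩⟩ := exists_comap C P
    haveI := h q hCq
    exact Lib.Goren.Flat.isGorensteinLocalRing_ringEquiv e.symm

theorem minimal_of_minimal {C I : Ideal S} (hI : I.IsHomogeneous 𝒢) [IsCohenMacaulayRing (S ⧸ I)]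
    (hCc : C.height = c) (hCI : C ≤ I) (hIc : I.height = c) {q : Ideal S} (hq : q ∈ I.minimalPrimes) :
    q ∈ C.minimalPrimes := by
  haveI := hq.1.1
  exact minimal_of_height_eq hCc ((height_minimalPrimes hI hq).trans hIc) (hCI.trans hq.1.2)

theorem depth_loc {C I : Ideal S} [IsGorensteinRing (S ⧸ C)] (hI : I.IsHomogeneous 𝒢)
    [IsCohenMacaulayRing (S ⧸ I)] (hCc : C.height = c) (hCI : C ≤ I) (hIc : I ≠ ⊤ → I.height = c)
    (p : Ideal S) [p.IsPrime] (hCp : C ≤ p) [IsLocalRing (LQ C p)] {d : ℕ}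
    (hd : ringKrullDim (LQ C p) = d) :
    (d : ℕ∞) ≤ depth (LQ C p) (LQ C p ⧸ loc C I p) := by
  by_cases hIp : I ≤ p
  · haveI := isCMRing_isCM (C := C)
    haveI := isCohenMacaulayLocalRing_lq C p hCp
    obtain ⟨q, hq, hqp⟩ := Ideal.exists_minimalPrimes_le hIp
    haveI := hq.1.1
    have hqC := minimal_of_minimal hI hCc hCI
      (hIc fun h => (Ideal.IsPrime.ne_top ‹p.IsPrime›) (top_le_iff.1 (h ▸ hIp))) hq
    haveI := isLocalRing_lq I p hIp
    haveI := isCohenMacaulayLocalRing_lq I p hIp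
    haveI : IsLocalRing (LQ C p ⧸ loc C I p) := (locQuot C I p hCI).symm.isLocalRing
    exact le_depth_quot hd (exists_minimal_lq C p hqC hqp) (Ideal.map_mono (Ideal.map_mono hq.1.2))
      (Lib.Excellent.Transport.isCohenMacaulayLocalRing_of_ringEquiv (locQuot C I p hCI).symm)
  · haveI : Subsingleton (LQ C p ⧸ loc C I p) :=
      Submodule.Quotient.subsingleton_iff.2 (loc_eq_top C I p hIp)
    rw [depth, Lib.Depth.Basic.idealDepth_subsingleton]
    exact le_top
where
  isCMRing_isCM {C : Ideal S} [IsGorensteinRing (S ⧸ C)] : IsCohenMacaulayRing (S ⧸ C) :=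
    isCohenMacaulayRing_of_gorenstein (S ⧸ C)

theorem cm_transfer {C I J : Ideal S} (hC : C.IsHomogeneous 𝒢) (hI : I.IsHomogeneous 𝒢)
    [IsGorensteinRing (S ⧸ C)] (hCc : C.height = c) (hIJ : C.colon (I : Set S) = J)
    (hJI : C.colon (J : Set S) = I) (hcm : IsCohenMacaulayRing (S ⧸ I)) :
    IsCohenMacaulayRing (S ⧸ J) := by
  haveI := hcm
  haveI := isCohenMacaulayRing_of_gorenstein (S ⧸ C)
  have hCI : C ≤ I := hJI ▸ le_colon_self C J
  have hCJ : C ≤ J := hIJ ▸ le_colon_self C I
  refine isCMRing_of_local fun q _ hJq => ?_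
  have hCq := hCJ.trans hJq
  haveI := isLocalRing_lq C q hCq
  haveI := isGorensteinLocalRing_lq C q hCq
  obtain ⟨d, hd⟩ := Lib.Goren.LCI.exists_nat_dim (LQ C q)
  have hi := depth_loc hI hCc hCI (fun hne => by
    rw [← hJI]
    refine ((colon_unmixed hC ?_).1).trans hCc
    intro hJC
    refine hne ?_
    rw [← hJI]
    exact (Submodule.colon_eq_top_iff_subset (N := C) _).2 hJC) q hCq hd
  have hj := depth_quot_ann d (LQ C q) hd (loc C I q) hi
  rw [← loc_colon, hIJ] at hj
  haveI := isLocalRing_lq J q hJq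
  haveI : IsLocalRing (LQ C q ⧸ loc C J q) := (locQuot C J q hCJ).symm.isLocalRing
  exact cm_quotQuot (Ideal.map_mono hCJ) (isCM_of_le_depth hd (loc C J q) hj)

theorem gorenstein_colon {C I : Ideal S} (hC : C.IsHomogeneous 𝒢) (hI : I.IsHomogeneous 𝒢)
    [IsGorensteinRing (S ⧸ C)] [IsCohenMacaulayRing (S ⧸ I)] (hCc : C.height = c) (hIc : I.height = c)
    (hCI : C ≤ I) (f : S) (hIf : I = C ⊔ Ideal.span {f}) :
    IsGorensteinRing (S ⧸ C.colon (I : Set S)) := by
  refine isGorRing_of_local fun q _ hJq => ?_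
  have hCq := (le_colon_self C I).trans hJq
  haveI := isLocalRing_lq C q hCq
  haveI := isGorensteinLocalRing_lq C q hCq
  obtain ⟨d, hd⟩ := Lib.Goren.LCI.exists_nat_dim (LQ C q)
  have hi := depth_loc hI hCc hCI (fun _ => hIc) q hCq hd
  have hC0 : loc C C q = ⊥ := Ideal.map_quotient_self _
  have he : loc C I q = Ideal.span {Ideal.Quotient.mk _ (algebraMap S (Localization.AtPrime q) f)} := by
    rw [hIf, loc_sup, hC0, bot_sup_eq, loc, Ideal.map_span, Set.image_singleton, Ideal.map_span,
      Set.image_singleton]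
  rw [he] at hi
  haveI := isLocalRing_lq (C.colon (I : Set S)) q hJq
  have hne : (⊥ : Ideal (LQ C q)).colon ((Ideal.span {Ideal.Quotient.mk _
      (algebraMap S (Localization.AtPrime q) f)} : Ideal (LQ C q)) : Set (LQ C q)) ≠ ⊤ := by
    rw [← he, ← loc_colon]
    exact loc_ne_top C _ q (le_colon_self C I) hJq
  have hg := gorenstein_quot_ann d (LQ C q) hd _ hi hne
  rw [← he, ← loc_colon] at hg
  exact gor_quotQuot (Ideal.map_mono (le_colon_self C I)) hg

theorem gorenstein_ci {C : Ideal S} (hC : C.height = c) (g : Fin c → S)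
    (hg : Ideal.span (Set.range g) = C) : IsGorensteinRing (S ⧸ C) := by
  refine isGorRing_of_local fun q _ hCq => ?_
  haveI : IsGorensteinRing S := Lib.Goren.Rings.isGorensteinRing_of_isRegularRing S
  haveI := IsGorensteinRing.isGorensteinLocalRing_localization (A := S) q
  set l := (List.ofFn g).map (algebraMap S (Localization.AtPrime q))
  have hl : Ideal.ofList l = C.map (algebraMap S (Localization.AtPrime q)) := by
    rw [← hg, Ideal.map_span, Ideal.ofList]
    congr 1
    ext x
    simp [l]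
  have hmem : ∀ x ∈ l, x ∈ maximalIdeal (Localization.AtPrime q) := by
    intro x hx
    obtain ⟨y, hy, rfl⟩ := List.mem_map.1 hx
    obtain ⟨i, rfl⟩ := (List.mem_ofFn).1 hy
    rw [IsLocalization.AtPrime.to_map_mem_maximal_iff (Localization.AtPrime q) q]
    exact hCq (hg ▸ Ideal.subset_span ⟨i, rfl⟩)
  have hdim : ringKrullDim (Localization.AtPrime q ⧸ Ideal.ofList l) + (c : WithBot ℕ∞) ≤
      ringKrullDim (Localization.AtPrime q) := by
    obtain ⟨P, hP, hPq, ⟨e⟩⟩ := exists_localization C q hCq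
    rw [dim_quot_congr hl, ← ringKrullDim_eq_of_ringEquiv e,
      IsLocalization.AtPrime.ringKrullDim_eq_height P (Localization.AtPrime P),
      IsLocalization.AtPrime.ringKrullDim_eq_height q (Localization.AtPrime q)]
    have hq := height_add (k := k) q
    obtain ⟨a, ha⟩ := ENat.ne_top_iff_exists.1 (Ideal.height_ne_top (Ideal.IsPrime.ne_top ‹q.IsPrime›))
    rw [← ha, ← Nat.cast_add, Nat.cast_inj] at hq
    have hb : P.height + (c : ℕ∞) ≤ q.height := by
      rw [← ha]
      refine le_trans (add_le_add (?_ : P.height ≤ ((a - c : ℕ) : ℕ∞)) le_rfl) ?_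
      · rw [PrimeSpectrum.height_eq_orderHeight ⟨P, hP⟩]
        refine Order.height_le fun l' hl' => ?_
        let l2 : LTSeries (PrimeSpectrum S) := l'.map (PrimeSpectrum.comap (Ideal.Quotient.mk C))
          (fun a b h => lt_of_le_of_ne (Ideal.comap_mono h.le) fun e =>
            h.ne (PrimeSpectrum.ext (comap_eq_comap_inj C (congrArg PrimeSpectrum.asIdeal e))))
        have h3 := length_add_dimQ_le k l2
        have hlast : l2.last.asIdeal = q := by
          show (l'.last.asIdeal).comap (Ideal.Quotient.mk C) = q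
          rw [hl']
          exact hPq
        have hhead : C ≤ l2.head.asIdeal := fun x hx => by
          show Ideal.Quotient.mk C x ∈ l'.head.asIdeal
          rw [Ideal.Quotient.eq_zero_iff_mem.2 hx]
          exact Submodule.zero_mem _
        rw [hlast] at h3
        have h4 := height_add (k := k) l2.head.asIdeal
        obtain ⟨b, hb⟩ := ENat.ne_top_iff_exists.1 (Ideal.height_ne_top l2.head.isPrime.ne_top)
        rw [← hb, ← Nat.cast_add, Nat.cast_inj] at h4
        have h5 : (c : ℕ∞) ≤ (b : ℕ∞) := by rw [← hC, hb]; exact Ideal.height_mono hhead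
        have h5' : c ≤ b := by exact_mod_cast h5
        have e : l2.length = l'.length := rfl
        exact_mod_cast (show l'.length ≤ a - c by omega)
      · have hca : (c : ℕ∞) ≤ (a : ℕ∞) := by rw [ha, ← hC]; exact Ideal.height_mono hCq
        have hca' : c ≤ a := by exact_mod_cast hca
        exact_mod_cast (show a - c + c ≤ a by omega)
    exact_mod_cast hb
  have := Lib.Goren.LCI.gorenstein_quotient_of_dim c (Localization.AtPrime q) l
    (by simp [l]) hmem hdim
  exact gor_quot_congr hl this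

theorem height_inf {I J : Ideal S} (hI : I.height = c) (hJ : J.height = c) : (I ⊓ J).height = c := by
  refine le_antisymm (hI ▸ Ideal.height_mono inf_le_left) ?_
  rw [Ideal.height_eq_inf_minimalPrimes (I ⊓ J)]
  refine le_iInf₂ fun P hP => ?_
  rcases (Ideal.IsPrime.inf_le hP.1.1).1 hP.1.2 with h | h
  · exact hI ▸ Ideal.height_mono h
  · exact hJ ▸ Ideal.height_mono h

theorem colon_inf {I J : Ideal S} (hJ : J.IsHomogeneous 𝒢) [IsCohenMacaulayRing (S ⧸ J)]
    (hI : I.height = c) (hJc : J.height = c) (hdisj : Disjoint I.minimalPrimes J.minimalPrimes) :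
    (I ⊓ J).colon (I : Set S) = J := by
  refine le_antisymm (fun x hx => ?_) (fun x hx => Submodule.mem_colon.2 fun s hs =>
    ⟨I.mul_mem_left x hs, J.mul_mem_right s hx⟩)
  by_contra hxJ
  obtain ⟨p, hp, hle⟩ := exists_associated_of_not_mem hxJ
  haveI : p.IsPrime := IsAssociatedPrime.isPrime hp
  have hIp : I ≤ p := fun i hi => hle (Submodule.mem_colon_singleton.2 (by
    have := (Submodule.mem_colon.1 hx i hi).2
    rwa [smul_eq_mul, mul_comm] at this))
  exact Set.disjoint_left.1 hdisj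
    (minimal_of_height_eq hI ((height_associated hJ hp).trans hJc) hIp)
    (mem_minimalPrimes_of_associated hp)

theorem gorenstein_sum {I J : Ideal S} (hI : I.IsHomogeneous 𝒢) (hJ : J.IsHomogeneous 𝒢)
    [IsCohenMacaulayRing (S ⧸ I)] [IsCohenMacaulayRing (S ⧸ J)] [IsGorensteinRing (S ⧸ (I ⊓ J))]
    (hIc : I.height = c) (hJc : J.height = c) (hdisj : Disjoint I.minimalPrimes J.minimalPrimes) :
    (I ⊔ J).height = c + 1 ∧ IsGorensteinRing (S ⧸ (I ⊔ J)) := by
  set C := I ⊓ J with hC
  have hCc : C.height = c := height_inf hIc hJc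
  have hIJ : C.colon (I : Set S) = J := colon_inf hJ hIc hJc hdisj
  have hJI : C.colon (J : Set S) = I := by
    rw [hC, inf_comm]; exact colon_inf hI hJc hIc hdisj.symm
  have hmin : ∀ q ∈ C.minimalPrimes, ¬ I ⊔ J ≤ q := fun q hq hle => by
    haveI := hq.1.1
    exact Set.disjoint_left.1 hdisj
      (⟨⟨hq.1.1, le_sup_left.trans hle⟩, fun r hr hrq => hq.2 ⟨hr.1, inf_le_left.trans hr.2⟩ hrq⟩)
      (⟨⟨hq.1.1, le_sup_right.trans hle⟩, fun r hr hrq => hq.2 ⟨hr.1, inf_le_right.trans hr.2⟩ hrq⟩)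
  have hCS : C ≤ I ⊔ J := inf_le_left.trans le_sup_left
  refine ⟨?_, isGorRing_of_local fun q _ hq => ?_⟩
  · have hne : I ⊔ J ≠ ⊤ := by
      intro h
      have hnI : I ≠ ⊤ := fun e => by rw [e, Ideal.height_top] at hIc; exact (ENat.natCast_ne_top c) hIc.symm
      have hnJ : J ≠ ⊤ := fun e => by rw [e, Ideal.height_top] at hJc; exact (ENat.natCast_ne_top c) hJc.symm
      exact (Lib.ProjDim.Graded.irr_isMaximal (n := n) (k := k)).ne_top (top_le_iff.1 (h ▸
        sup_le (Lib.ProjDim.Graded.le_irr hI hnI) (Lib.ProjDim.Graded.le_irr hJ hnJ)))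
    have hge : ∀ P ∈ (I ⊔ J).minimalPrimes, P.height = c + 1 := by
      intro P hP
      haveI := hP.1.1
      have hCP : C ≤ P := hCS.trans hP.1.2
      obtain ⟨q, hq, hqP⟩ := Ideal.exists_minimalPrimes_le hCP
      haveI := hq.1.1
      have hlt : q < P := lt_of_le_of_ne hqP fun e => hmin q hq (e ▸ hP.1.2)
      have hq1 : (c : ℕ∞) ≤ q.height := hCc ▸ Ideal.height_mono hq.1.2
      have h1 := (add_le_add hq1 le_rfl).trans (Ideal.height_add_one_le_of_lt_of_isPrime hlt)
      refine le_antisymm ?_ h1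
      by_contra hgt
      push Not at hgt
      haveI := isLocalRing_lq C P hCP
      haveI := isGorensteinLocalRing_lq C P hCP
      obtain ⟨d, hd⟩ := Lib.Goren.LCI.exists_nat_dim (LQ C P)
      have hqc : q.height = c := height_associated_gor' hI hJ (minimalPrimes_subset_associatedPrimes _ hq) hCc
      have hd2 : 2 ≤ d := by
        obtain ⟨P', hP', hP'q, ⟨e⟩⟩ := exists_localization C P hCP
        rw [← ringKrullDim_eq_of_ringEquiv e, IsLocalization.AtPrime.ringKrullDim_eq_height P' (Localization.AtPrime P')] at hd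
        obtain ⟨r, hr1, hr2⟩ : ∃ r : PrimeSpectrum S, q < r.asIdeal ∧ r.asIdeal < P := by
          by_contra hno
          have hcov : (⟨q, hq.1.1⟩ : PrimeSpectrum S) ⋖ ⟨P, hP.1.1⟩ :=
            ⟨hlt, fun r h1 h2 => hno ⟨r, h1, h2⟩⟩
          have h3 := dimQ_add_one_of_covBy k hcov
          have h4 := height_eq_of_dimQ.1 hqc
          have h3' : dimQ k P + 1 = dimQ k q := h3
          have h5 : P.height = ((c + 1 : ℕ) : ℕ∞) := height_eq_of_dimQ.2 (by omega)
          rw [h5, Nat.cast_succ] at hgt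
          exact lt_irrefl _ hgt
        have hk : ∀ x : Ideal S, q ≤ x → RingHom.ker (Ideal.Quotient.mk C) ≤ x := fun x hx => by
          rw [Ideal.mk_ker]; exact hq.1.2.trans hx
        haveI := r.isPrime
        haveI := Ideal.map_isPrime_of_surjective (f := Ideal.Quotient.mk C) Ideal.Quotient.mk_surjective (hk q le_rfl)
        haveI := Ideal.map_isPrime_of_surjective (f := Ideal.Quotient.mk C) Ideal.Quotient.mk_surjective (hk r.asIdeal hr1.le)
        have hlt' : ∀ {x y : Ideal S}, q ≤ x → x < y →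
            x.map (Ideal.Quotient.mk C) < y.map (Ideal.Quotient.mk C) := by
          intro x y hx hxy
          refine lt_of_le_of_ne (Ideal.map_mono hxy.le) fun e => hxy.ne ?_
          have := congrArg (Ideal.comap (Ideal.Quotient.mk C)) e
          rwa [Ideal.comap_map_of_surjective _ Ideal.Quotient.mk_surjective,
            Ideal.comap_map_of_surjective _ Ideal.Quotient.mk_surjective, ← RingHom.ker_eq_comap_bot,
            sup_eq_left.2 (hk x hx), sup_eq_left.2 (hk y (hx.trans hxy.le))] at this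
        have hPm : P' = P.map (Ideal.Quotient.mk C) := by
          rw [← hP'q, Ideal.map_comap_of_surjective _ Ideal.Quotient.mk_surjective]
        have a1 := Ideal.height_add_one_le_of_lt_of_isPrime (hlt' le_rfl hr1)
        have a2 := Ideal.height_add_one_le_of_lt_of_isPrime
          (hPm ▸ hlt' hr1.le hr2 : r.asIdeal.map (Ideal.Quotient.mk C) < P')
        have a3 : ((2 : ℕ) : ℕ∞) ≤ P'.height := by
          refine le_trans ?_ ((add_le_add a1 le_rfl).trans a2)
          rw [add_assoc]
          exact le_add_left (le_of_eq (by norm_num))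
        have a4 : ((2 : ℕ) : WithBot ℕ∞) ≤ (d : WithBot ℕ∞) := hd ▸ WithBot.coe_le_coe.2 a3
        exact_mod_cast a4
      have hi := depth_loc hI hCc inf_le_left (fun _ => hIc) P hCP hd
      have hj := depth_loc hJ hCc inf_le_right (fun _ => hJc) P hCP hd
      have hs := depth_sup hd _ _ (loc_inf C I P rfl) hi hj
      haveI := isLocalRing_lq (I ⊔ J) P hP.1.2
      haveI := isArtinianRing_lq (I ⊔ J) P hP.1.2 hP
      haveI : IsLocalRing (LQ C P ⧸ (loc C I P ⊔ loc C J P)) := by
        rw [← loc_sup]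
        exact (locQuot C (I ⊔ J) P hCS).symm.isLocalRing
      haveI : IsArtinianRing (LQ C P ⧸ (loc C I P ⊔ loc C J P)) := by
        rw [← loc_sup]
        exact (locQuot C (I ⊔ J) P hCS).symm.isArtinianRing
      have h0 := Lib.Goren.Artin.depth_eq_zero (A := LQ C P ⧸ (loc C I P ⊔ loc C J P))
      rw [← Lib.Depth.CM.depth_quotient_eq] at h0
      rw [h0] at hs
      have hs' : d - 1 = 0 := by
        have : ((d - 1 : ℕ) : ℕ∞) ≤ ((0 : ℕ) : ℕ∞) := hs
        have : d - 1 ≤ 0 := by exact_mod_cast this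
        omega
      omega
    rw [Ideal.height_eq_inf_minimalPrimes (I ⊔ J)]
    obtain ⟨P, hP⟩ := Set.nonempty_coe_sort.1 (Ideal.nonempty_minimalPrimes hne)
    exact le_antisymm ((iInf₂_le P hP).trans_eq (hge P hP))
      (le_iInf₂ fun P hP => (hge P hP).ge)
  · have hCq := hCS.trans hq
    haveI := isLocalRing_lq C q hCq
    haveI := isGorensteinLocalRing_lq C q hCq
    obtain ⟨d, hd⟩ := Lib.Goren.LCI.exists_nat_dim (LQ C q)
    have hi := depth_loc hI hCc inf_le_left (fun _ => hIc) q hCq hd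
    have hj := depth_loc hJ hCc inf_le_right (fun _ => hJc) q hCq hd
    have hne := loc_ne_top C (I ⊔ J) q hCS hq
    rw [loc_sup] at hne
    have hg := gorenstein_quot_sup d (LQ C q) hd _ _ (loc_inf C I q rfl)
      (by rw [← loc_colon, hIJ]) (by rw [← loc_colon, hJI]) hi hj
      (fun P hP hle => by
        refine hmin _ (comap_minimal_lq C q hP) ?_
        rw [← loc_sup, loc, Ideal.map_le_iff_le_comap, Ideal.map_le_iff_le_comap] at hle
        exact hle) hne
    rw [← loc_sup] at hg
    exact gor_quotQuot (Ideal.map_mono hCS) hg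
where
  height_associated_gor' {I J : Ideal S} [IsGorensteinRing (S ⧸ (I ⊓ J))] (hI : I.IsHomogeneous 𝒢)
      (hJ : J.IsHomogeneous 𝒢) {P : Ideal S} (hP : P ∈ associatedPrimes S (S ⧸ (I ⊓ J)))
      {c : ℕ} (hc : (I ⊓ J).height = c) : P.height = c :=
    (height_associated_gor (hI.inf hJ) hP).trans hc

end Groth.Agent.H2.Liaison.Global
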