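import Groth.Agent.H2.Liaison.Main
import Groth.Agent.Lib.LCFin.Seq
import Groth.Agent.Lib.Depth.LocalCoh
import Groth.Agent.Lib.Depth.Local

/-!
# Local cohomology of a basic double link
-/

set_option autoImplicit false
set_option linter.style.haveILetI false
set_option linter.overlappingInstances false
set_option linter.unusedVariables false

universe u

open IsLocalRing LocCoh

namespace Groth.Agent.H2.Liaison.LocalCoh

open Groth.Agent.H2.Liaison.Basic Groth.Agent.H2.Liaison.Poly Groth.Agent.H2.Liaison.Main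
  Groth.Agent.Lib.Dim.Basic Groth.Agent.Lib.LCFin

variable {k : Type u} [Field k] {n : ℕ}

local notation "S" => MvPolynomial (Fin (n + 1)) k
local notation "𝒢" => CohB1.polyGrading n k
local notation "𝔪" => HomogeneousIdeal.toIdeal (GrSyz.irrel (GrSyz.stdGr k (Fin (n + 1))))

theorem irr_le {p : Ideal S} [p.IsPrime] (hp : 𝔪 ≤ p) : Lib.ProjDim.Graded.irr n k ≤ p := by
  intro f hf
  rw [Lib.ProjDim.Graded.mem_irr] at hf
  rw [MvPolynomial.as_sum f]
  refine Ideal.sum_mem _ fun s hs => ?_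
  obtain ⟨i, hi⟩ : ∃ i, s i ≠ 0 := by
    by_contra hc
    push Not at hc
    exact (MvPolynomial.mem_support_iff.1 hs) (by rw [Finsupp.ext (f := s) (g := 0) hc]; exact hf)
  refine Ideal.mem_of_dvd _ (MvPolynomial.monomial_dvd_monomial.2 ⟨Or.inr ?_, one_dvd _⟩)
    (hp (Ideal.subset_span ⟨((1 : ℕ) : ℤ), by norm_num, ?_⟩) : MvPolynomial.X i ∈ p)
  · exact Finsupp.single_le_iff.2 (Nat.one_le_iff_ne_zero.2 hi)
  · rw [stdGr_natCast]
    exact MvPolynomial.isHomogeneous_X k i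

theorem dim_lq_prime {Q : Ideal S} [Q.IsPrime] (hQm : Q ≤ Lib.ProjDim.Graded.irr n k)
    [hm : (Lib.ProjDim.Graded.irr n k).IsMaximal] :
    ringKrullDim (LQ Q (Lib.ProjDim.Graded.irr n k)) = (dimQ k Q : WithBot ℕ∞) := by
  obtain ⟨R, hR, hRm, ⟨e⟩⟩ := exists_localization Q _ hQm
  rw [← ringKrullDim_eq_of_ringEquiv e,
    IsLocalization.AtPrime.ringKrullDim_eq_height R (Localization.AtPrime R)]
  haveI : R.IsMaximal := by
    have hRe : R = (Lib.ProjDim.Graded.irr n k).map (Ideal.Quotient.mk Q) := by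
      rw [← hRm, Ideal.map_comap_of_surjective _ Ideal.Quotient.mk_surjective]
    rw [hRe]
    exact (Ideal.map_eq_top_or_isMaximal_of_surjective _ Ideal.Quotient.mk_surjective
      inferInstance).resolve_left (hRe ▸ hR.ne_top)
  have h2 := height_add_dimQ k R
  rw [dimQ_eq_zero_of_isMaximal, Nat.cast_zero, add_zero] at h2
  rw [h2]
  rfl

theorem le_depth {K : Ideal S} (hK : K.IsHomogeneous 𝒢) [IsCohenMacaulayRing (S ⧸ K)] {h : ℕ}
    (hKh : ∀ P ∈ K.minimalPrimes, P.height = (h : ℕ∞) + 1) :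
    ((n - h : ℕ) : ℕ∞) ≤ idealDepth 𝔪 (S ⧸ K) := by
  rcases eq_or_ne K ⊤ with rfl | hne
  · haveI : Subsingleton (S ⧸ (⊤ : Ideal S)) := Submodule.Quotient.subsingleton_iff.2 rfl
    rw [Lib.Depth.Basic.idealDepth_subsingleton]
    exact le_top
  rw [Lib.Depth.Local.idealDepth_eq_iInf]
  refine le_iInf₂ fun p hp => ?_
  haveI : (Lib.ProjDim.Graded.irr n k).IsMaximal := Lib.ProjDim.Graded.irr_isMaximal
  have hm : p.asIdeal = Lib.ProjDim.Graded.irr n k :=
    (Ideal.IsMaximal.eq_of_le ‹_› p.isPrime.ne_top (irr_le hp)).symm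
  obtain ⟨p, hpp⟩ := p
  subst hm
  set m := Lib.ProjDim.Graded.irr n k
  have hKm : K ≤ m := Lib.ProjDim.Graded.le_irr hK hne
  haveI := isLocalRing_lq K m hKm
  haveI := isCohenMacaulayLocalRing_lq K m hKm
  rw [Lib.Depth.Basic.depth_congr
    ((LocalizedModule.equivTensorProduct m.primeCompl (S ⧸ K)).trans
      (Algebra.TensorProduct.quotIdealMapEquivTensorQuot (Localization.AtPrime m) K).symm.toLinearEquiv),
    Lib.Depth.CM.depth_quotient_eq]
  have h1 := Lib.Depth.CM.ringKrullDim_eq_depth (R := LQ K m)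
  obtain ⟨q, hq⟩ := Set.nonempty_coe_sort.1 (Ideal.nonempty_minimalPrimes hne)
  haveI := hq.1.1
  have hqm : q ≤ m := Lib.ProjDim.Graded.le_irr (Lib.ProjDim.Graded.minimalPrimes_isHomogeneous hK hq)
    (Ideal.IsPrime.ne_top ‹_›)
  have h2 : ringKrullDim (LQ q m) ≤ ringKrullDim (LQ K m) :=
    ringKrullDim_le_of_surjective _ (Ideal.Quotient.factor_surjective (Ideal.map_mono hq.1.2))
  rw [dim_lq_prime hqm, h1] at h2
  have h3 : q.height = ((h + 1 : ℕ) : ℕ∞) := by rw [hKh q hq]; norm_cast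
  rw [height_eq_of_dimQ] at h3
  rw [show n - h = dimQ k q by omega]
  exact_mod_cast h2

theorem nonempty_equiv {J I : Ideal S} {f : S} {d h : ℕ} (hJ : J.IsHomogeneous 𝒢)
    [IsCohenMacaulayRing (S ⧸ J)] (hf : f.IsHomogeneous d) (hJI : J ≤ I)
    (hJh : J.height = h) (hJf : J.colon ({f} : Set S) = J) {i : ℕ} (hi : i + h < n) :
    Nonempty (LocCoh.H 𝔪 i (S ⧸ (J ⊔ Ideal.span {f} * I)) ≃ₗ[S] LocCoh.H 𝔪 i (S ⧸ I)) := by
  classical
  set K := J ⊔ Ideal.span {f}
  set L := J ⊔ Ideal.span {f} * I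
  have hLK : L ≤ K := sup_le_sup_left Ideal.mul_le_left _
  let φ : (S ⧸ I) →ₗ[S] (S ⧸ L) := Submodule.mapQ I L (LinearMap.mulRight S f) fun a ha => by
    show a * f ∈ L
    rw [mul_comm]
    exact Ideal.mem_sup_right (Ideal.mul_mem_mul (Ideal.mem_span_singleton_self f) ha)
  let g : (S ⧸ L) →ₗ[S] (S ⧸ K) := Submodule.factor hLK
  have hφa : ∀ a : S, φ (Submodule.Quotient.mk a) = Submodule.Quotient.mk (a * f) := fun a => rfl
  have hga : ∀ a : S, g (Submodule.Quotient.mk a) = Submodule.Quotient.mk a := fun a => rfl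
  have hφ : Function.Injective φ := by
    rw [injective_iff_map_eq_zero]
    intro x hx
    obtain ⟨a, rfl⟩ := Submodule.Quotient.mk_surjective _ x
    rw [hφa, Submodule.Quotient.mk_eq_zero] at hx
    rw [Submodule.Quotient.mk_eq_zero]
    obtain ⟨j, hj, w, hw, hjw⟩ := Submodule.mem_sup.1 hx
    obtain ⟨i, hi, rfl⟩ := Ideal.mem_span_singleton_mul.1 hw
    have h1 : (a - i) * f ∈ J := by
      rw [sub_mul, ← hjw, show j + f * i - i * f = j by ring]
      exact hj
    have h2 : a - i ∈ J := hJf ▸ Submodule.mem_colon_singleton.2 h1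
    rw [← sub_add_cancel a i]
    exact I.add_mem (hJI h2) hi
  have hex : Function.Exact φ g := by
    intro x
    obtain ⟨a, rfl⟩ := Submodule.Quotient.mk_surjective _ x
    constructor
    · intro hx
      rw [hga, Submodule.Quotient.mk_eq_zero] at hx
      obtain ⟨j, hj, w, hw, rfl⟩ := Submodule.mem_sup.1 hx
      obtain ⟨b, rfl⟩ := Ideal.mem_span_singleton'.1 hw
      refine ⟨Submodule.Quotient.mk b, ?_⟩
      rw [hφa, Submodule.Quotient.eq, show b * f - (j + b * f) = -j by ring]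
      exact neg_mem (Ideal.mem_sup_left hj)
    · rintro ⟨y, hy⟩
      obtain ⟨b, rfl⟩ := Submodule.Quotient.mk_surjective _ y
      rw [← hy, hφa, hga, Submodule.Quotient.mk_eq_zero]
      exact Ideal.mem_sup_right (Ideal.mem_span_singleton.2 ⟨b, mul_comm _ _⟩)
  have hg : Function.Surjective g := Submodule.factor_surjective hLK
  have hreg : IsSMulRegular (S ⧸ J) (Ideal.Quotient.mk J f) := by
    rw [isSMulRegular_iff_right_eq_zero_of_smul]
    intro x hx
    obtain ⟨a, rfl⟩ := Ideal.Quotient.mk_surjective x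
    rw [smul_eq_mul, ← map_mul, Ideal.Quotient.eq_zero_iff_mem, mul_comm] at hx
    rw [Ideal.Quotient.eq_zero_iff_mem]
    exact hJf ▸ Submodule.mem_colon_singleton.2 hx
  have := H25.CMUnmixed.isCohenMacaulayRing_quotient hreg
  let e : ((S ⧸ J) ⧸ Ideal.span {Ideal.Quotient.mk J f}) ≃+* S ⧸ K :=
    (Ideal.quotEquivOfEq (by rw [Ideal.map_span, Set.image_singleton])).trans
      (DoubleQuot.quotQuotEquivQuotSup J (Ideal.span {f}))
  haveI : LocCoh.IsCohenMacaulayRing (S ⧸ K) :=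
    Lib.Excellent.Transport.isoInvariant_isCohenMacaulayRing _ _ e (this)
  have hdep := le_depth (H2.HilbDegree.sup_isHomogeneous hJ hf) (h := h)
    fun P hP => height_sup_span hJ hJh hJf hP
  have hz := (Lib.Depth.LocalCoh.le_idealDepth_iff_H 𝔪 (S ⧸ K) (n - h)).1 hdep
  have hsurj : Function.Surjective (Seq.Hmap 𝔪 i φ) := fun x =>
    (Seq.exact_map_map 𝔪 hφ hg hex i x).1 ((hz i (by omega)).elim _ _)
  have hinj : Function.Injective (Seq.Hmap 𝔪 i φ) := by
    rcases i with _ | j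
    · exact Seq.injective_map_zero 𝔪 hφ hg hex
    · rw [injective_iff_map_eq_zero]
      intro x hx
      obtain ⟨y, rfl⟩ := (Seq.exact_δ_map 𝔪 hφ hg hex j x).1 hx
      rw [(hz j (by omega)).elim y 0, map_zero]
  exact ⟨(LinearEquiv.ofBijective _ ⟨hinj, hsurj⟩).symm⟩

end Groth.Agent.H2.Liaison.LocalCoh
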