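import Groth.Agent.H2.Liaison.Poly
import Mathlib.RingTheory.Localization.BaseChange
import Mathlib.RingTheory.TensorProduct.Quotient

/-!
# Linked ideals and basic double links
-/

set_option autoImplicit false
set_option linter.style.haveILetI false
set_option linter.overlappingInstances false

universe u

open IsLocalRing TensorProduct

namespace Groth.Agent.H2.Liaison.Main

open Groth.Agent.H2.Liaison.Basic Groth.Agent.H2.Liaison.Poly Groth.Agent.Lib.Dim.Basic
  Groth.Agent.H2.HilbDegree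

variable {k : Type u} [Field k] {n c : ℕ}

local notation "S" => MvPolynomial (Fin (n + 1)) k
local notation "𝒢" => CohB1.polyGrading n k

theorem height_associated_gor {C : Ideal S} (hC : C.IsHomogeneous 𝒢)
    [LocCoh.IsGorensteinRing (S ⧸ C)] {P : Ideal S} (hP : P ∈ associatedPrimes S (S ⧸ C)) :
    P.height = C.height :=
  haveI := isCohenMacaulayRing_of_gorenstein (S ⧸ C)
  height_associated hC hP

/-- height and associated primes of a colon ideal -/
theorem colon_unmixed {C I : Ideal S} (hC : C.IsHomogeneous 𝒢) [LocCoh.IsGorensteinRing (S ⧸ C)]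
    (hI : ¬ I ≤ C) :
    (C.colon (I : Set S)).height = C.height ∧
      ∀ p ∈ associatedPrimes S (S ⧸ C.colon (I : Set S)), p.height = C.height := by
  have hass : ∀ p ∈ associatedPrimes S (S ⧸ C.colon (I : Set S)), p.height = C.height :=
    fun p hp => height_associated_gor hC (associatedPrimes_colon_subset C I hp)
  refine ⟨le_antisymm ?_ (Ideal.height_mono (le_colon_self C I)), hass⟩
  obtain ⟨p, hp⟩ : (C.colon (I : Set S)).minimalPrimes.Nonempty := by
    refine Set.nonempty_coe_sort.1 <| Ideal.nonempty_minimalPrimes fun (h : C.colon (I : Set S) = ⊤) => hI fun x hx => ?_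
    have h1 : (1 : S) ∈ C.colon (I : Set S) := by rw [h]; trivial
    simpa using Submodule.mem_colon.1 h1 x hx
  exact (Ideal.height_mono hp.1.2).trans_eq (hass p (minimalPrimes_subset_associatedPrimes _ hp))

theorem colon_colon_eq {C I : Ideal S} [LocCoh.IsGorensteinRing (S ⧸ C)]
    (hCc : C.height = c) (hIu : ∀ p ∈ associatedPrimes S (S ⧸ I), p.height = c) (hCI : C ≤ I) :
    C.colon ((C.colon (I : Set S) : Ideal S) : Set S) = I := by
  refine le_antisymm (fun x hx => ?_) (le_colon_colon C I)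
  by_contra hxI
  obtain ⟨p, hp, hle⟩ := exists_associated_of_not_mem hxI
  haveI : p.IsPrime := IsAssociatedPrime.isPrime hp
  have hCp : C ≤ p := hCI.trans (le_of_mem_associatedPrimes hp)
  have hmin := minimal_of_height_eq hCc (hIu p hp) hCp
  haveI := isLocalRing_lq C p hCp
  haveI := isArtinianRing_lq C p hCp hmin
  haveI := isGorensteinLocalRing_lq C p hCp
  have h := colon_colon_local (B := Localization.AtPrime p) (C := C.map (algebraMap S _))
    (I := I.map (algebraMap S _)) (Ideal.map_mono hCI)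
  rw [← colon_map p.primeCompl _ (IsNoetherian.noetherian I),
    ← colon_map p.primeCompl _ (IsNoetherian.noetherian _)] at h
  have hx' := Ideal.mem_map_of_mem (algebraMap S (Localization.AtPrime p)) hx
  rw [h, IsLocalization.algebraMap_mem_map_algebraMap_iff p.primeCompl] at hx'
  obtain ⟨s, hs, hsx⟩ := hx'
  exact hs (hle (Submodule.mem_colon_singleton.2 hsx))

theorem inf_eq_of_linked {C I J : Ideal S} (hC : C.IsHomogeneous 𝒢)
    [LocCoh.IsGorensteinRing (S ⧸ C)] (hCc : C.height = c)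
    (hIJ : C.colon (I : Set S) = J) (hJI : C.colon (J : Set S) = I)
    (hdisj : Disjoint (associatedPrimes S (S ⧸ I)) (associatedPrimes S (S ⧸ J))) :
    I ⊓ J = C := by
  have hCI : C ≤ I := hJI ▸ le_colon_self C J
  have hCJ : C ≤ J := hIJ ▸ le_colon_self C I
  refine le_antisymm (fun x hx => ?_) (le_inf hCI hCJ)
  by_contra hxC
  obtain ⟨p, hp, hle⟩ := exists_associated_of_not_mem hxC
  haveI : p.IsPrime := IsAssociatedPrime.isPrime hp
  have hpc : p.height = c := (height_associated_gor hC hp).trans hCc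
  have hI' : I ≤ p := by
    intro i hi
    refine hle (Submodule.mem_colon_singleton.2 ?_)
    have := Submodule.mem_colon.1 (hIJ.symm ▸ hx.2 : x ∈ C.colon (I : Set S)) i hi
    rwa [smul_eq_mul, mul_comm] at this
  have hJ' : J ≤ p := by
    intro j hj
    refine hle (Submodule.mem_colon_singleton.2 ?_)
    have := Submodule.mem_colon.1 (hJI.symm ▸ hx.1 : x ∈ C.colon (J : Set S)) j hj
    rwa [smul_eq_mul, mul_comm] at this
  have hmin := minimal_of_height_eq hCc hpc (le_of_mem_associatedPrimes hp)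
  exact Set.disjoint_left.1 hdisj
    (minimalPrimes_subset_associatedPrimes I
      ⟨⟨inferInstance, hI'⟩, fun q hq hle => hmin.2 ⟨hq.1, hCI.trans hq.2⟩ hle⟩)
    (minimalPrimes_subset_associatedPrimes J
      ⟨⟨inferInstance, hJ'⟩, fun q hq hle => hmin.2 ⟨hq.1, hCJ.trans hq.2⟩ hle⟩)

theorem colon_singleton_notMem {J : Ideal S} {f : S} (hJf : J.colon ({f} : Set S) = J) {q : Ideal S}
    (hq : q ∈ J.minimalPrimes) : f ∉ q := by
  intro hfq
  obtain ⟨hqp, y, hy⟩ := mem_associatedPrimes_quotient.1 (minimalPrimes_subset_associatedPrimes J hq)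
  have h1 : f ∈ J.colon ({y} : Set S) := hy ▸ hfq
  rw [Submodule.mem_colon_singleton, smul_eq_mul, mul_comm] at h1
  have h2 : y ∈ J := hJf ▸ Submodule.mem_colon_singleton.2 h1
  exact hqp.ne_top (hy.trans ((Submodule.colon_eq_top_iff_subset (N := J) _).2
    (Set.singleton_subset_iff.2 h2)))

theorem le_height_of_mem {J P : Ideal S} [P.IsPrime] {f : S} {h : ℕ} (hJf : J.colon ({f} : Set S) = J)
    (hJh : J.height = h) (hJP : J ≤ P) (hfP : f ∈ P) : ((h + 1 : ℕ) : ℕ∞) ≤ P.height := by
  obtain ⟨q, hq, hqP⟩ := Ideal.exists_minimalPrimes_le hJP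
  haveI := hq.1.1
  have hlt : q < P := lt_of_le_of_ne hqP fun e => colon_singleton_notMem hJf hq (e ▸ hfP)
  have h1 : (h : ℕ∞) ≤ q.height := hJh ▸ Ideal.height_mono hq.1.2
  rw [Nat.cast_add, Nat.cast_one]
  exact (add_le_add h1 le_rfl).trans
    (Ideal.height_add_one_le_of_lt_of_isPrime hlt)

theorem height_basicDoubleLink {J I : Ideal S} {f : S} {h : ℕ} (hJI : J ≤ I) (hJh : J.height = h)
    (hIh : I.height = h + 1) (hJf : J.colon ({f} : Set S) = J) :
    (J ⊔ Ideal.span {f} * I).height = h + 1 := by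
  refine le_antisymm ?_ ?_
  · rw [← hIh]
    exact Ideal.height_mono (sup_le hJI Ideal.mul_le_right)
  · rw [Ideal.height_eq_inf_minimalPrimes (J ⊔ Ideal.span {f} * I)]
    refine le_iInf₂ fun P hP => ?_
    haveI := hP.1.1
    rcases (Ideal.IsPrime.mul_le ‹P.IsPrime›).1 (le_sup_right.trans hP.1.2) with h1 | h1
    · have := le_height_of_mem hJf hJh (le_sup_left.trans hP.1.2)
        (h1 (Ideal.mem_span_singleton_self f))
      exact_mod_cast this
    · exact hIh ▸ Ideal.height_mono h1

theorem height_sup_span {J : Ideal S} (hJ : J.IsHomogeneous 𝒢) [LocCoh.IsCohenMacaulayRing (S ⧸ J)]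
    {f : S} {h : ℕ} (hJh : J.height = h) (hJf : J.colon ({f} : Set S) = J)
    {P : Ideal S} (hP : P ∈ (J ⊔ Ideal.span {f}).minimalPrimes) : P.height = h + 1 := by
  haveI := hP.1.1
  refine le_antisymm ?_ ?_
  · obtain ⟨q, hq, hqP⟩ := Ideal.exists_minimalPrimes_le (le_sup_left.trans hP.1.2 : J ≤ P)
    haveI := hq.1.1
    have hmin : P ∈ (q ⊔ Ideal.span (({f} : Finset S) : Set S)).minimalPrimes := by
      rw [Finset.coe_singleton]
      exact ⟨⟨inferInstance, sup_le hqP (le_sup_right.trans hP.1.2)⟩, fun r hr hle =>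
        hP.2 ⟨hr.1, le_trans (sup_le_sup_right hq.1.2 _) hr.2⟩ hle⟩
    have h1 := Lib.ProjDim.Tensor.dimQ_le_add_of_minimalPrimes (k := k) q P {f} hmin
    rw [Finset.card_singleton] at h1
    have h2 : q.height = h := (height_minimalPrimes hJ hq).trans hJh
    rw [height_eq_of_dimQ] at h2
    have h3 := height_add (k := k) P
    obtain ⟨a, ha⟩ := ENat.ne_top_iff_exists.1
      (Ideal.height_ne_top (Ideal.IsPrime.ne_top ‹P.IsPrime›))
    rw [← ha, ← Nat.cast_add, Nat.cast_inj] at h3
    rw [← ha]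
    exact_mod_cast (show a ≤ h + 1 by omega)
  · have := le_height_of_mem hJf hJh (le_sup_left.trans hP.1.2)
      (hP.1.2 (Ideal.mem_sup_right (Ideal.mem_span_singleton_self f)))
    exact_mod_cast this

theorem unmixed_iff {J I : Ideal S} {f : S} {h : ℕ} (hJ : J.IsHomogeneous 𝒢)
    [LocCoh.IsCohenMacaulayRing (S ⧸ J)] (hJI : J ≤ I)
    (hJh : J.height = h) (hJf : J.colon ({f} : Set S) = J) :
    (∀ p ∈ associatedPrimes S (S ⧸ I), p.height = h + 1) ↔
      ∀ p ∈ associatedPrimes S (S ⧸ (J ⊔ Ideal.span {f} * I)), p.height = h + 1 := by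
  classical
  set K := J ⊔ Ideal.span {f}
  set L := J ⊔ Ideal.span {f} * I
  have hLK : L ≤ K := sup_le_sup_left Ideal.mul_le_left _
  let φ : (S ⧸ I) →ₗ[S] (S ⧸ L) := Submodule.mapQ I L (LinearMap.mulRight S f) fun a ha => by
    show a * f ∈ L
    rw [mul_comm]
    exact Ideal.mem_sup_right (Ideal.mul_mem_mul (Ideal.mem_span_singleton_self f) ha)
  let g : (S ⧸ L) →ₗ[S] (S ⧸ K) := Submodule.factor hLK
  have hφa : ∀ a : S, φ (Submodule.Quotient.mk a) = Submodule.Quotient.mk (a * f) := fun a => rfl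
  have hga : ∀ a : S, g (Submodule.Quotient.mk a) = Submodule.Quotient.mk a := fun a => rfl
  have hφ : Function.Injective φ := by
    rw [injective_iff_map_eq_zero]
    intro x hx
    obtain ⟨a, rfl⟩ := Submodule.Quotient.mk_surjective _ x
    rw [hφa, Submodule.Quotient.mk_eq_zero] at hx
    rw [Submodule.Quotient.mk_eq_zero]
    obtain ⟨j, hj, w, hw, hjw⟩ := Submodule.mem_sup.1 hx
    obtain ⟨i, hi, rfl⟩ := Ideal.mem_span_singleton_mul.1 hw
    have h1 : (a - i) * f ∈ J := by
      rw [sub_mul, ← hjw, show j + f * i - i * f = j by ring]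
      exact hj
    have h2 : a - i ∈ J := hJf ▸ Submodule.mem_colon_singleton.2 h1
    rw [← sub_add_cancel a i]
    exact I.add_mem (hJI h2) hi
  have hex : Function.Exact φ g := by
    intro x
    obtain ⟨a, rfl⟩ := Submodule.Quotient.mk_surjective _ x
    constructor
    · intro hx
      rw [hga, Submodule.Quotient.mk_eq_zero] at hx
      obtain ⟨j, hj, w, hw, rfl⟩ := Submodule.mem_sup.1 hx
      obtain ⟨b, rfl⟩ := Ideal.mem_span_singleton'.1 hw
      refine ⟨Submodule.Quotient.mk b, ?_⟩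
      rw [hφa, Submodule.Quotient.eq, show b * f - (j + b * f) = -j by ring]
      exact neg_mem (Ideal.mem_sup_left hj)
    · rintro ⟨y, hy⟩
      obtain ⟨b, rfl⟩ := Submodule.Quotient.mk_surjective _ y
      rw [← hy, hφa, hga, Submodule.Quotient.mk_eq_zero]
      exact Ideal.mem_sup_right (Ideal.mem_span_singleton.2 ⟨b, mul_comm _ _⟩)
  constructor
  · intro hI p hp
    rcases associatedPrimes.subset_union_of_exact hφ hex hp with h1 | h1
    · exact hI p h1
    · have hreg : IsSMulRegular (S ⧸ J) (Ideal.Quotient.mk J f) := by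
        rw [isSMulRegular_iff_right_eq_zero_of_smul]
        intro x hx
        obtain ⟨a, rfl⟩ := Ideal.Quotient.mk_surjective x
        rw [smul_eq_mul, ← map_mul, Ideal.Quotient.eq_zero_iff_mem, mul_comm] at hx
        rw [Ideal.Quotient.eq_zero_iff_mem]
        exact hJf ▸ Submodule.mem_colon_singleton.2 hx
      have := H25.CMUnmixed.isCohenMacaulayRing_quotient hreg
      let e : ((S ⧸ J) ⧸ Ideal.span {Ideal.Quotient.mk J f}) ≃+* S ⧸ K :=
        (Ideal.quotEquivOfEq (by rw [Ideal.map_span, Set.image_singleton])).trans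
          (DoubleQuot.quotQuotEquivQuotSup J (Ideal.span {f}))
      haveI : LocCoh.IsCohenMacaulayRing (S ⧸ K) :=
        Lib.Excellent.Transport.isoInvariant_isCohenMacaulayRing _ _ e (this)
      have hmin := mem_minimalPrimes_of_associated h1
      exact height_sup_span hJ hJh hJf hmin
  · exact fun hL p hp => hL p (associatedPrimes.subset_of_injective hφ hp)

theorem mult_eq (I : Ideal S) (q : PrimeSpectrum S) :
    mult I q = Module.length (Localization.AtPrime q.asIdeal)
      (Localization.AtPrime q.asIdeal ⧸ I.map (algebraMap S (Localization.AtPrime q.asIdeal))) :=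
  ((LocalizedModule.equivTensorProduct q.asIdeal.primeCompl (S ⧸ I)).trans
    (Algebra.TensorProduct.quotIdealMapEquivTensorQuot
      (Localization.AtPrime q.asIdeal) I).symm.toLinearEquiv).length_eq

theorem mult_colon {C I : Ideal S} [LocCoh.IsGorensteinRing (S ⧸ C)] (hCI : C ≤ I)
    {q : PrimeSpectrum S} (hq : q.asIdeal ∈ C.minimalPrimes) :
    mult (C.colon (I : Set S)) q + mult I q = mult C q := by
  have hCp : C ≤ q.asIdeal := hq.1.2
  haveI := isLocalRing_lq C q.asIdeal hCp
  haveI := isArtinianRing_lq C q.asIdeal hCp hq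
  haveI := isGorensteinLocalRing_lq C q.asIdeal hCp
  rw [mult_eq, mult_eq, mult_eq, colon_map q.asIdeal.primeCompl _ (IsNoetherian.noetherian I)]
  exact length_colon_local (Ideal.map_mono hCI)

theorem isHP_stdGr {I : Ideal S} {p : Polynomial ℚ}
    (hp : ∃ j₀ : ℕ, ∀ j : ℕ, j₀ ≤ j → (Module.finrank k ↥(Submodule.map (Ideal.Quotient.mkₐ k I).toLinearMap
      (GrSyz.stdGr k (Fin (n + 1)) (j : ℤ))) : ℚ) = p.eval (j : ℚ)) : IsHP I p := by
  obtain ⟨j₀, h⟩ := hp
  refine ⟨j₀, fun j hj => ?_⟩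
  rw [← h j hj, stdGr_natCast]
  exact H2.HilbDeg.finrank_piece I j

theorem coeff_colon {C I : Ideal S} (hC : C.IsHomogeneous 𝒢) (hI : I.IsHomogeneous 𝒢)
    (hJ : (C.colon (I : Set S)).IsHomogeneous 𝒢)
    [LocCoh.IsGorensteinRing (S ⧸ C)] (hcn : c ≤ n) (hCc : C.height = c) (hCI : C ≤ I)
    {pC pI pJ : Polynomial ℚ} (hpC : IsHP C pC) (hpI : IsHP I pI)
    (hpJ : IsHP (C.colon (I : Set S)) pJ) :
    pJ.coeff (n - c) = pC.coeff (n - c) - pI.coeff (n - c) := by
  classical
  haveI := isCohenMacaulayRing_of_gorenstein (S ⧸ C)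
  have hfin := Ideal.finite_minimalPrimes_of_isNoetherianRing S C
  have hf' : {q : PrimeSpectrum S | q.asIdeal ∈ C.minimalPrimes}.Finite :=
    hfin.preimage fun a _ b _ h => PrimeSpectrum.ext h
  set T := hf'.toFinset
  let Qf : PrimeSpectrum S → Polynomial ℚ := fun q =>
    if h : q.asIdeal.IsHomogeneous 𝒢 then (exists_isHP h).choose else 0
  have hdimQ : ∀ q : PrimeSpectrum S, q.asIdeal ∈ C.minimalPrimes →
      dimQ k q.asIdeal + c = n + 1 := fun q hq =>
    height_eq_of_dimQ.1 ((height_minimalPrimes hC hq).trans hCc)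
  have hT : ∀ q ∈ T, q.asIdeal.IsHomogeneous 𝒢 ∧ IsHP q.asIdeal (Qf q) ∧ Qf q ≠ 0 ∧
      (Qf q).natDegree = n - c := by
    intro q hq
    rw [Set.Finite.mem_toFinset] at hq
    have hh := Lib.ProjDim.Graded.minimalPrimes_isHomogeneous hC hq
    have h1 : IsHP q.asIdeal (Qf q) := by
      simp only [Qf, dif_pos hh]
      exact (exists_isHP hh).choose_spec
    have hd := hdimQ q hq
    have h0 := isHP_ne_zero_of_dimQ_pos h1 (by omega)
    have := h1.dimQ_eq hh h0
    exact ⟨hh, h1, h0, by omega⟩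
  have hcov : ∀ {D : Ideal S}, C ≤ D → ∀ q : PrimeSpectrum S, q.asIdeal.IsHomogeneous 𝒢 →
      D ≤ q.asIdeal → ∀ Q, IsHP q.asIdeal Q → Q ≠ 0 → Q.natDegree = n - c → q ∈ T := by
    intro D hD q hqh hDq Q hQ hQ0 hQd
    rw [Set.Finite.mem_toFinset]
    have h1 := hQ.dimQ_eq hqh hQ0
    exact minimal_of_height_eq hCc (height_eq_of_dimQ.2 (by omega)) (hD.trans hDq)
  have hdeg : ∀ {D : Ideal S}, D.IsHomogeneous 𝒢 → C ≤ D → ∀ {p : Polynomial ℚ}, IsHP D p →
      p.natDegree ≤ n - c := by
    intro D hD hle p hp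
    refine (hpC.natDegree_le hC hD hp hle).trans ?_
    rcases eq_or_ne pC 0 with h | h
    · simp [h]
    · have h1 := hpC.dim_eq hC h
      have h2 : ringKrullDim (S ⧸ C) ≤ ((n + 1 - c : ℕ) : WithBot ℕ∞) := by
        rw [ringKrullDim_quotient, Order.krullDim]
        refine iSup_le fun l => ?_
        have hle := length_add_dimQ_le k (l.map Subtype.val fun a b h => h)
        obtain ⟨q, hq, hqle⟩ := Ideal.exists_minimalPrimes_le
          (show C ≤ l.head.1.asIdeal from l.head.2)
        haveI := hq.1.1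
        have h4 := dimQ_anti k hqle
        have h5 : dimQ k q + c = n + 1 := hdimQ ⟨q, hq.1.1⟩ hq
        have hle' : l.length ≤ dimQ k l.head.1.asIdeal := (Nat.le_add_right _ _).trans hle
        exact_mod_cast (show l.length ≤ n + 1 - c by omega)
      rw [h1] at h2
      have h3 : pC.natDegree + 1 ≤ n + 1 - c := by exact_mod_cast h2
      omega
  obtain ⟨fC, eC⟩ := coeff_eq_sum (n - c) Qf C hC pC hpC (hdeg hC le_rfl hpC) T hT (hcov le_rfl)
  obtain ⟨fI, eI⟩ := coeff_eq_sum (n - c) Qf I hI pI hpI (hdeg hI hCI hpI) T hT (hcov hCI)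
  obtain ⟨fJ, eJ⟩ := coeff_eq_sum (n - c) Qf _ hJ pJ hpJ (hdeg hJ (le_colon_self C I) hpJ) T hT
    (hcov (le_colon_self C I))
  rw [eC, eI, eJ, ← Finset.sum_sub_distrib]
  refine Finset.sum_congr rfl fun q hq => ?_
  rw [← mult_colon hCI (hf'.mem_toFinset.1 hq), ENat.toNat_add (fJ q hq) (fI q hq)]
  push_cast
  ring

theorem colon_homogeneous {C I : Ideal S} (hC : C.IsHomogeneous 𝒢) (hI : I.IsHomogeneous 𝒢) :
    (C.colon (I : Set S)).IsHomogeneous 𝒢 := by
  intro i a ha
  rw [Submodule.mem_colon] at ha ⊢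
  intro s hs
  rw [← MvPolynomial.sum_homogeneousComponent s, Finset.smul_sum]
  refine Submodule.sum_mem C fun j _ => ?_
  have hsj := Lib.ProjDim.Graded.component_mem hI hs j
  have h := colon_isHomogeneous hC (f := MvPolynomial.homogeneousComponent j s)
    (MvPolynomial.homogeneousComponent_isHomogeneous j s) i
    (Submodule.mem_colon_singleton.2 (ha _ hsj))
  exact Submodule.mem_colon_singleton.1 h

end Groth.Agent.H2.Liaison.Main
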