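import Groth.Agent.H2.Liaison.Basic
import Groth.Agent.H2.HilbDegree
import Groth.Prelude.Def_GrSyz
import Mathlib.RingTheory.Ideal.KrullsHeightTheorem

/-!
# Homogeneous Cohen–Macaulay quotients of polynomial rings are unmixed
-/

set_option autoImplicit false
set_option linter.style.haveILetI false
set_option linter.overlappingInstances false

universe u

open IsLocalRing

namespace Groth.Agent.H2.Liaison.Poly

open Groth.Agent.H2.Liaison.Basic Groth.Agent.Lib.Dim.Basic

variable {k : Type u} [Field k] {n : ℕ}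

local notation "S" => MvPolynomial (Fin (n + 1)) k
local notation "𝒢" => CohB1.polyGrading n k
local notation "𝒢'" => GrSyz.stdGr k (Fin (n + 1))

theorem weight_one (d : Fin (n + 1) →₀ ℕ) :
    Finsupp.weight (fun _ : Fin (n + 1) => (1 : ℤ)) d = (d.degree : ℤ) := by
  rw [Finsupp.weight_apply, Finsupp.degree_apply, Finsupp.sum]
  push_cast
  simp

theorem stdGr_natCast (j : ℕ) : 𝒢' (j : ℤ) = 𝒢 j := by
  ext p
  rw [GrSyz.mem_stdGr_iff, MvPolynomial.mem_homogeneousSubmodule]
  constructor
  · intro h d hd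
    have h' := h hd
    rw [weight_one, Nat.cast_inj] at h'
    rwa [Finsupp.degree_eq_weight_one] at h'
  · intro h d hd
    have h' := h hd
    rw [weight_one, Nat.cast_inj]
    rw [Finsupp.degree_eq_weight_one]
    exact h'

theorem stdGr_neg {i : ℤ} (hi : i < 0) {p : S} (hp : p ∈ 𝒢' i) : p = 0 := by
  rw [GrSyz.mem_stdGr_iff] at hp
  ext d
  by_contra hd
  have h := hp hd
  rw [weight_one] at h
  omega

theorem isHomogeneous_of_mem_stdGr {i : ℤ} {p : S} (hp : p ∈ 𝒢' i) :
    ∃ d, p.IsHomogeneous d := by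
  rcases lt_or_ge i 0 with hi | hi
  · exact ⟨0, stdGr_neg hi hp ▸ MvPolynomial.isHomogeneous_zero _ _ _⟩
  · obtain ⟨j, rfl⟩ := Int.eq_ofNat_of_zero_le hi
    rw [stdGr_natCast] at hp
    exact ⟨j, hp⟩

theorem isHomogeneous_conv {I : Ideal S} (hI : I.IsHomogeneous 𝒢') : I.IsHomogeneous 𝒢 := by
  obtain ⟨T, rfl⟩ := (Ideal.IsHomogeneous.iff_exists 𝒢' I).1 hI
  refine Lib.ProjDim.Graded.span_isHomogeneous ?_
  rintro f ⟨⟨g, i, hg⟩, -, rfl⟩
  exact isHomogeneous_of_mem_stdGr hg

theorem ringKrullDim_quotQuot {B : Type u} [CommRing B] {C Q : Ideal B} (h : C ≤ Q) :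
    ringKrullDim ((B ⧸ C) ⧸ Q.map (Ideal.Quotient.mk C)) = ringKrullDim (B ⧸ Q) :=
  ringKrullDim_eq_of_ringEquiv (DoubleQuot.quotQuotEquivQuotOfLE h)

theorem height_add (P : Ideal S) [P.IsPrime] : P.height + (dimQ k P : ℕ∞) = ((n + 1 : ℕ) : ℕ∞) := by
  rw [height_add_dimQ k P, ← dimQ_bot (k := k) (A := S), Lib.ProjDim.Graded.dimQ_bot_poly]

/-- All minimal primes of a homogeneous ideal with Cohen–Macaulay quotient have the same height. -/
theorem height_minimalPrimes {C : Ideal S} (hC : C.IsHomogeneous 𝒢)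
    [LocCoh.IsCohenMacaulayRing (S ⧸ C)] {P : Ideal S} (hP : P ∈ C.minimalPrimes) :
    P.height = C.height := by
  set m := Lib.ProjDim.Graded.irr n k with hm
  haveI : m.IsMaximal := Lib.ProjDim.Graded.irr_isMaximal
  set Sm := Localization.AtPrime m
  have key : ∀ Q : Ideal S, Q ∈ C.minimalPrimes →
      ∀ [Q.IsPrime], ringKrullDim (LQ C m) = (dimQ k Q : WithBot ℕ∞) := by
    intro Q hQ _
    have hQh := Lib.ProjDim.Graded.minimalPrimes_isHomogeneous hC hQ
    have hQm : Q ≤ m := Lib.ProjDim.Graded.le_irr hQh (Ideal.IsPrime.ne_top ‹_›)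
    have hCm : C ≤ m := hQ.1.2.trans hQm
    have := isLocalRing_lq C m hCm
    have := isCohenMacaulayLocalRing_lq C m hCm
    have hd : Disjoint (m.primeCompl : Set S) (Q : Set S) :=
      Set.disjoint_left.2 fun x hx hxQ => hx (hQm hxQ)
    set Q' := Q.map (algebraMap S Sm) with hQ'
    haveI : Q'.IsPrime := IsLocalization.isPrime_of_isPrime_disjoint m.primeCompl Sm Q ‹_› hd
    have hmin : Q' ∈ (C.map (algebraMap S Sm)).minimalPrimes := by
      rw [IsLocalization.minimalPrimes_map m.primeCompl Sm C]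
      show Q'.under S ∈ C.minimalPrimes
      rwa [IsLocalization.under_map_of_isPrime_disjoint m.primeCompl Sm ‹_› hd]
    have hle : C.map (algebraMap S Sm) ≤ Q' := hmin.1.2
    have hker : RingHom.ker (Ideal.Quotient.mk (C.map (algebraMap S Sm))) ≤ Q' := by
      rwa [Ideal.mk_ker]
    haveI hq : (Q'.map (Ideal.Quotient.mk (C.map (algebraMap S Sm)))).IsPrime :=
      Ideal.map_isPrime_of_surjective Ideal.Quotient.mk_surjective hker
    have hass : Q'.map (Ideal.Quotient.mk (C.map (algebraMap S Sm))) ∈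
        associatedPrimes (LQ C m) (LQ C m) := by
      refine Module.associatedPrimes.minimalPrimes_annihilator_subset_associatedPrimes _ _ ?_
      rw [Module.annihilator_eq_bot.mpr inferInstance]
      refine ⟨⟨hq, bot_le⟩, fun q' hq' hle' => ?_⟩
      haveI := hq'.1
      have h1 : q'.comap (Ideal.Quotient.mk (C.map (algebraMap S Sm))) ≤ Q' := by
        refine (Ideal.comap_mono hle').trans ?_
        rw [Ideal.comap_map_of_surjective _ Ideal.Quotient.mk_surjective, ← RingHom.ker_eq_comap_bot]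
        exact sup_le le_rfl hker
      have h2 := hmin.2 ⟨inferInstance, by
        intro x hx
        rw [Ideal.mem_comap, Ideal.Quotient.eq_zero_iff_mem.2 hx]
        exact q'.zero_mem⟩ h1
      exact Ideal.map_le_iff_le_comap.2 h2
    have h1 := Lib.Depth.CM.ringKrullDim_quotient_eq
      (Lib.Depth.CM.isCohenMacaulayModule_self (R := LQ C m)) hass
    rw [Module.supportDim_self_eq_ringKrullDim] at h1
    rw [← h1, ringKrullDim_quotQuot hle]
    obtain ⟨R, hR, hRm, ⟨e⟩⟩ := exists_localization Q m hQm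
    rw [← ringKrullDim_eq_of_ringEquiv e,
      IsLocalization.AtPrime.ringKrullDim_eq_height R (Localization.AtPrime R)]
    haveI : R.IsMaximal := by
      have hRe : R = m.map (Ideal.Quotient.mk Q) := by
        rw [← hRm, Ideal.map_comap_of_surjective _ Ideal.Quotient.mk_surjective]
      rw [hRe]
      exact (Ideal.map_eq_top_or_isMaximal_of_surjective _ Ideal.Quotient.mk_surjective
        inferInstance).resolve_left (hRe ▸ hR.ne_top)
    have h2 := height_add_dimQ k R
    rw [dimQ_eq_zero_of_isMaximal, Nat.cast_zero, add_zero] at h2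
    rw [h2]
    rfl
  haveI := hP.1.1
  refine le_antisymm ?_ (Ideal.height_mono hP.1.2)
  rw [Ideal.height_eq_inf_minimalPrimes C]
  refine le_iInf₂ fun Q hQ => le_of_eq ?_
  haveI := hQ.1.1
  have h1 := key P hP
  have h2 := key Q hQ
  rw [h1] at h2
  replace h2 : dimQ k P = dimQ k Q := by exact_mod_cast h2
  have h3 := height_add (k := k) P
  rw [h2, ← height_add (k := k) Q] at h3
  exact WithTop.add_right_cancel (ENat.natCast_ne_top _) h3

/-- Every associated prime of a homogeneous ideal with Cohen–Macaulay quotient is minimal. -/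
theorem mem_minimalPrimes_of_associated {C : Ideal S} [LocCoh.IsCohenMacaulayRing (S ⧸ C)]
    {P : Ideal S} (hP : P ∈ associatedPrimes S (S ⧸ C)) : P ∈ C.minimalPrimes := by
  obtain ⟨hPp, y, hy⟩ := mem_associatedPrimes_quotient.1 hP
  have hCP := le_of_mem_associatedPrimes hP
  haveI := hPp
  have hker : RingHom.ker (Ideal.Quotient.mk C) ≤ P := by rwa [Ideal.mk_ker]
  haveI hq : (P.map (Ideal.Quotient.mk C)).IsPrime :=
    Ideal.map_isPrime_of_surjective Ideal.Quotient.mk_surjective hker
  have hass : P.map (Ideal.Quotient.mk C) ∈ associatedPrimes (S ⧸ C) (S ⧸ C) := by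
    rw [AssociatedPrimes.mem_iff, isAssociatedPrime_iff]
    refine ⟨hq, Ideal.Quotient.mk C y, le_antisymm (Ideal.map_le_iff_le_comap.2 fun x hx => ?_) ?_⟩
    · rw [Ideal.mem_comap, Submodule.mem_colon_singleton, Submodule.mem_bot, smul_eq_mul, ← map_mul,
        Ideal.Quotient.eq_zero_iff_mem]
      rw [hy, Submodule.mem_colon_singleton] at hx
      exact hx
    · intro z hz
      obtain ⟨x, rfl⟩ := Ideal.Quotient.mk_surjective z
      rw [Submodule.mem_colon_singleton, Submodule.mem_bot, smul_eq_mul, ← map_mul,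
        Ideal.Quotient.eq_zero_iff_mem] at hz
      exact Ideal.mem_map_of_mem _ (hy ▸ Submodule.mem_colon_singleton.2 hz)
  have hmin := H25.CMUnmixed.mem_minimalPrimes _ hass
  refine ⟨⟨hPp, hCP⟩, fun Q hQ hle => ?_⟩
  haveI := hQ.1
  have hkQ : RingHom.ker (Ideal.Quotient.mk C) ≤ Q := by rw [Ideal.mk_ker]; exact hQ.2
  have := hmin.2 ⟨Ideal.map_isPrime_of_surjective Ideal.Quotient.mk_surjective hkQ, bot_le⟩
    (Ideal.map_mono hle)
  have := Ideal.comap_mono (f := Ideal.Quotient.mk C) this
  rw [Ideal.comap_map_of_surjective _ Ideal.Quotient.mk_surjective,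
    Ideal.comap_map_of_surjective _ Ideal.Quotient.mk_surjective, ← RingHom.ker_eq_comap_bot,
    sup_eq_left.2 hker, sup_eq_left.2 hkQ] at this
  exact this

theorem height_associated {C : Ideal S} (hC : C.IsHomogeneous 𝒢)
    [LocCoh.IsCohenMacaulayRing (S ⧸ C)] {P : Ideal S} (hP : P ∈ associatedPrimes S (S ⧸ C)) :
    P.height = C.height :=
  height_minimalPrimes hC (mem_minimalPrimes_of_associated hP)

theorem isCohenMacaulayRing_of_gorenstein (A : Type u) [CommRing A] [h : LocCoh.IsGorensteinRing A] :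
    LocCoh.IsCohenMacaulayRing A where
  isCohenMacaulayLocalRing_localization p _ := by
    have := h.isGorensteinLocalRing_localization p
    obtain ⟨m, hm⟩ := LocCoh.IsGorensteinLocalRing.exists_hasInjectiveDimensionLT
      (A := Localization.AtPrime p)
    obtain ⟨d, -, -, hcm, -⟩ := Lib.Goren.Basic.exists_dim hm
    exact hcm

theorem height_eq_of_dimQ {P : Ideal S} [P.IsPrime] {c : ℕ} :
    P.height = c ↔ dimQ k P + c = n + 1 := by
  have h := height_add (k := k) P
  constructor
  · intro e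
    rw [e, ← Nat.cast_add, Nat.cast_inj] at h
    omega
  · intro e
    have e' : ((n + 1 : ℕ) : ℕ∞) = (c : ℕ∞) + (dimQ k P : ℕ∞) := by
      rw [← Nat.cast_add, Nat.cast_inj]; omega
    rw [e'] at h
    exact WithTop.add_right_cancel (ENat.natCast_ne_top _) h

end Groth.Agent.H2.Liaison.Poly
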